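import Groth.Agent.H05EGA4.EtCl.Dev.Main
import Groth.Agent.H05EGA4.EtCl.CdpCharP
import Groth.Agent.H18Et.Cons.ExtZeroConst
import Groth.Agent.H18Et.LC.Wrap

/-!
# Supports of direct images along finite morphisms, isomorphisms at a point
-/

set_option autoImplicit false
set_option linter.style.haveILetI false
set_option linter.unusedSectionVars false
set_option linter.overlappingInstances false
set_option backward.isDefEq.respectTransparency false
set_option backward.isDefEq.respectTransparency.types false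

universe u

open CategoryTheory CategoryTheory.Limits AlgebraicGeometry Opposite TopologicalSpace Abelian
open scoped Classical

namespace Groth.Agent.H05EGA4.EtCl.Dev

open scoped Groth.Agent.H18Et

variable {X Y : Scheme.{u}}

/-- The constant sheaf of a finite group is constructible. -/
theorem isConstructible_const [AlgebraicGeometry.IsNoetherian X] (n : ℕ) [NeZero n] :
    EtPBC.IsConstructible (EtCoh.const X (ZMod n)) := by
  refine H18Et.Cons.isConstructible_of_pieces _ fun x => ⟨⊤, cl x, clι x, inferInstance, trivial, ?_,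
    H18Et.LC.isFiniteLocallyConstant_of_iso (EtCore.pullConst (clι x) (ZMod n)).symm
      (H18Et.LC.isFiniteLocallyConstant_const _)⟩
  rw [range_clι, TopologicalSpace.Opens.coe_top, Set.univ_inter]

/-- Supports of direct images along integral morphisms. -/
theorem supp_push_subset_image (h : X ⟶ Y) [IsIntegralHom h] (D : EtCoh.Ab X) :
    EtPBC.supp ((EtCoh.push h).obj D) ⊆ h '' EtPBC.supp D := by
  intro y hy
  by_contra hn
  let η : Spec (CommRingCat.of (AlgebraicClosure (Y.residueField y))) ⟶ Y :=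
    (Scheme.SpecToEquivOfField (AlgebraicClosure (Y.residueField y)) Y).symm
      ⟨y, CommRingCat.ofHom (algebraMap (Y.residueField y) _)⟩
  have hη : η.base default = y := by simp [η, Scheme.SpecToEquivOfField]
  haveI : Subsingleton ((EtCoh.stalk η).obj ((EtCoh.push h).obj D)) := ⟨fun a b =>
    H18Et.pushEval_jointly_injective D a b fun ξ => by
      haveI : Subsingleton ((EtCoh.stalk ξ.1).obj D) :=
        H18Et.Cons.subsingleton_stalk_of_notMem_supp D ξ.1 fun hm => hn ⟨_, hm,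
          (Scheme.Hom.comp_apply ξ.1 h default).symm.trans ((congrArg (fun k => k.base default) ξ.2).trans hη)⟩
      exact Subsingleton.elim _ _⟩
  have := H18Et.Cons.notMem_supp_of_subsingleton ((EtCoh.push h).obj D) η
  rw [hη] at this
  exact this hy

/-- The inverse image at a point outside the support vanishes. -/
theorem isZero_pull_of_notMem_supp {W : Scheme.{u}} (j : W ⟶ Y) (D : EtCoh.Ab Y)
    (h : ∀ w, j w ∉ EtPBC.supp D) : IsZero ((EtCoh.pull j).obj D) := by
  refine H18Et.Cons.isZero_of_supp_eq_empty _ fun w hw => ?_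
  haveI : Subsingleton ((EtCoh.stalk (H18Et.geomPt w ≫ j)).obj D) :=
    H18Et.Cons.subsingleton_stalk_of_notMem_supp D _ (by
      rw [Scheme.Hom.comp_apply, H18Et.geomPt_base]; exact h w)
  haveI : Subsingleton ((EtCoh.stalk (H18Et.geomPt w)).obj ((EtCoh.pull j).obj D)) :=
    AddCommGrpCat.subsingleton_of_isZero ((AddCommGrpCat.isZero_iff_subsingleton.2 inferInstance).of_iso
      ((H18Et.stalkPullIso j (H18Et.geomPt w)).app D))
  have := H18Et.Cons.notMem_supp_of_subsingleton ((EtCoh.pull j).obj D) (H18Et.geomPt w)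
  rw [H18Et.geomPt_base] at this
  exact this hw

theorem killedBy_of_mono {n : ℕ} {A B : EtCoh.Ab Y} (f : A ⟶ B) [Mono f] (h : EtCoh.KilledBy n B) :
    EtCoh.KilledBy n A :=
  H9GalCoh.Dev.killedBy_of_nsmul (by
    rw [← cancel_mono f, Preadditive.nsmul_comp, Category.id_comp, ← Category.comp_id f,
      ← Preadditive.comp_nsmul, H9GalCoh.Dev.nsmul_of_killedBy h, comp_zero, zero_comp])

theorem killedBy_of_epi {n : ℕ} {A B : EtCoh.Ab Y} (f : A ⟶ B) [Epi f] (h : EtCoh.KilledBy n A) :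
    EtCoh.KilledBy n B :=
  H9GalCoh.Dev.killedBy_of_nsmul (by
    rw [← cancel_epi f, comp_zero, Preadditive.comp_nsmul, Category.comp_id, ← Category.id_comp f,
      ← Preadditive.nsmul_comp, H9GalCoh.Dev.nsmul_of_killedBy h, zero_comp])

theorem killedBy_const (ℓ : ℕ) : EtCoh.KilledBy ℓ (EtCoh.const Y (ZMod ℓ)) :=
  H9GalCoh.Dev.killedBy_of_nsmul (nsmul_id_const ℓ)

theorem killedBy_of_isZero {n : ℕ} {A : EtCoh.Ab Y} (h : IsZero A) : EtCoh.KilledBy n A :=
  H9GalCoh.Dev.killedBy_of_nsmul (h.eq_of_src _ _)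

/-- The diagram of constructible sheaves killed by `ℓ` supported in a set computes cohomology. -/
theorem subsingleton_H_of_constructible [AlgebraicGeometry.IsNoetherian Y] {ℓ : ℕ} [hℓ : Fact ℓ.Prime]
    (S : Set Y) (q : ℕ)
    (h : ∀ C, EtPBC.IsConstructible C → EtCoh.KilledBy ℓ C → EtPBC.supp C ⊆ S → Subsingleton (EtCoh.H Y C q))
    (F : EtCoh.Ab Y) (hF : EtCoh.KilledBy ℓ F) (hs : EtPBC.supp F ⊆ S) : Subsingleton (EtCoh.H Y F q) := by
  let Q : EtCoh.Ab Y → Prop := fun C => EtCoh.KilledBy ℓ C ∧ EtPBC.supp C ⊆ S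
  have hQ0 : ∀ C, IsZero C → Q C := fun C hC => ⟨killedBy_of_isZero hC, fun y hy => by
    obtain ⟨Ω, _, _, ξ, -, h⟩ := hy
    exact (h ((EtCoh.stalk ξ).map_isZero hC)).elim⟩
  have hQ2 : ∀ A B, EtPBC.IsConstructible A → EtPBC.IsConstructible B → Q A → Q B → Q (A ⊞ B) :=
    fun A B _ _ hA hB => ⟨H9GalCoh.Dev.killedBy_of_nsmul (biprod.hom_ext _ _ (by
        rw [Preadditive.nsmul_comp, Category.id_comp, ← Category.comp_id biprod.fst, ← Preadditive.comp_nsmul,
          H9GalCoh.Dev.nsmul_of_killedBy hA.1, comp_zero, zero_comp]) (by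
        rw [Preadditive.nsmul_comp, Category.id_comp, ← Category.comp_id biprod.snd, ← Preadditive.comp_nsmul,
          H9GalCoh.Dev.nsmul_of_killedBy hB.1, comp_zero, zero_comp])),
      fun y hy => (H18Et.Cons.supp_biprod_subset A B hy).elim (fun h => hA.2 h) fun h => hB.2 h⟩
  have hQe : ∀ {A B : EtCoh.Ab Y} (e : A ⟶ B) [Epi e], EtPBC.IsConstructible A → Q A → Q B :=
    fun {A B} e _ _ hA => ⟨killedBy_of_epi e hA.1, (H18Et.Cons.supp_subset_of_epi e).trans hA.2⟩
  haveI := H18Et.Cons.isFiltered_idxCat (F := F) (Q := Q) hQ0 hQ2 hQe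
  obtain ⟨hc⟩ := H18Et.Cons.nonempty_isColimit_idxCocone (F := F) (Q := Q) hQ0 hQ2 hQe (fun {C} f hC =>
    ⟨Abelian.image f, Abelian.factorThruImage f, Abelian.image.ι f,
      H18Et.Cons.isConstructible_quotient (Abelian.factorThruImage f) hC,
      ⟨killedBy_of_mono (Abelian.image.ι f) hF, (H18Et.Cons.supp_subset_of_mono (Abelian.image.ι f)).trans hs⟩,
      Abelian.image.fac f⟩)
    (fun U s u => ⟨U, 𝟙 U, ⟨u, rfl⟩, isOfFinAddOrder_iff_nsmul_eq_zero.2 ⟨ℓ, hℓ.out.pos, hF U _⟩⟩)
  let D := H18Et.Cons.idxDiagram F Q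
  obtain ⟨hsurj, -⟩ := H18Et.CohColim.hSurj_hInj q D
  let e : colimit D ≅ F := (colimit.isColimit D).coconePointUniqueUpToIso hc
  refine subsingleton_H_iso e.symm _ (subsingleton_of_forall_eq 0 fun x => ?_)
  obtain ⟨j, y, rfl⟩ := hsurj x
  haveI := h (D.obj j) (H18Et.Cons.Idx.isConstructible j) (H18Et.Cons.Idx.prop j).1 (H18Et.Cons.Idx.prop j).2
  rw [Subsingleton.elim y 0, map_zero]

/-- From sheaves killed by `ℓ` to primary torsion sheaves. -/
theorem cohDimLEAt_of_killed [AlgebraicGeometry.IsNoetherian Y] {ℓ : ℕ} [hℓ : Fact ℓ.Prime] (N : ℕ)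
    (h : ∀ F : EtCoh.Ab Y, EtCoh.KilledBy ℓ F → ∀ q, N < q → Subsingleton (EtCoh.H Y F q)) :
    Dix.CohDimLEAt Y ℓ N := by
  intro F hF q hq
  let Q : EtCoh.Ab Y → Prop := fun C => ∃ a, EtCoh.KilledBy (ℓ ^ a) C
  have hQ0 : ∀ C, IsZero C → Q C := fun C hC => ⟨0, killedBy_of_isZero hC⟩
  have hmono : ∀ {C : EtCoh.Ab Y} {a b : ℕ}, a ≤ b → EtCoh.KilledBy (ℓ ^ a) C → EtCoh.KilledBy (ℓ ^ b) C :=
    fun {C} {a b} hab hC V s => by
      obtain ⟨c, rfl⟩ := Nat.exists_eq_add_of_le hab
      rw [pow_add, mul_comm, mul_nsmul', hC V s, nsmul_zero]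
  have hQ2 : ∀ A B, EtPBC.IsConstructible A → EtPBC.IsConstructible B → Q A → Q B → Q (A ⊞ B) :=
    fun A B _ _ ⟨a, hA⟩ ⟨b, hB⟩ => ⟨max a b, H9GalCoh.Dev.killedBy_of_nsmul (biprod.hom_ext _ _ (by
        rw [Preadditive.nsmul_comp, Category.id_comp, ← Category.comp_id biprod.fst, ← Preadditive.comp_nsmul,
          H9GalCoh.Dev.nsmul_of_killedBy (hmono (le_max_left a b) hA), comp_zero, zero_comp]) (by
        rw [Preadditive.nsmul_comp, Category.id_comp, ← Category.comp_id biprod.snd, ← Preadditive.comp_nsmul,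
          H9GalCoh.Dev.nsmul_of_killedBy (hmono (le_max_right a b) hB), comp_zero, zero_comp]))⟩
  have hQe : ∀ {A B : EtCoh.Ab Y} (e : A ⟶ B) [Epi e], EtPBC.IsConstructible A → Q A → Q B :=
    fun {A B} e _ _ ⟨a, hA⟩ => ⟨a, killedBy_of_epi e hA⟩
  haveI := H18Et.Cons.isFiltered_idxCat (F := F) (Q := Q) hQ0 hQ2 hQe
  obtain ⟨hc⟩ := H18Et.Cons.nonempty_isColimit_idxCocone (F := F) (Q := Q) hQ0 hQ2 hQe (fun {C} f hC =>
    ⟨Abelian.image f, Abelian.factorThruImage f, Abelian.image.ι f,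
      H18Et.Cons.isConstructible_quotient (Abelian.factorThruImage f) hC,
      exists_pow_killedBy hℓ.out _ (H18Et.Cons.isConstructible_quotient (Abelian.factorThruImage f) hC)
        (isPrimaryTorsion_kernel (cokernel.π f) hF),
      Abelian.image.fac f⟩) (fun U s u => by
      obtain ⟨V, e, hv, k, hk⟩ := hF U s u
      exact ⟨V, e, hv, isOfFinAddOrder_iff_nsmul_eq_zero.2 ⟨ℓ ^ k, pow_pos hℓ.out.pos k, hk⟩⟩)
  let D := H18Et.Cons.idxDiagram F Q
  obtain ⟨hsurj, -⟩ := H18Et.CohColim.hSurj_hInj q D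
  let e : colimit D ≅ F := (colimit.isColimit D).coconePointUniqueUpToIso hc
  refine subsingleton_H_iso e.symm _ (subsingleton_of_forall_eq 0 fun x => ?_)
  obtain ⟨j, y, rfl⟩ := hsurj x
  obtain ⟨a, ha⟩ := H18Et.Cons.Idx.prop j
  haveI : Subsingleton (EtCoh.H Y (D.obj j) q) :=
    EtCl.subsingleton_H_killed q (fun G hG => h G hG q hq) a _ ha
  rw [Subsingleton.elim y 0, map_zero]

section Functor

variable {C D : Type*} [Category C] [Category D] [Abelian C] [Abelian D] (F : C ⥤ D)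

theorem isIso_map_pullback_fst [PreservesFiniteLimits F] {A B W : C} (f : A ⟶ W) (g : B ⟶ W) [IsIso (F.map g)] :
    IsIso (F.map (pullback.fst f g)) := by
  rw [← PreservesPullback.iso_hom_fst]
  infer_instance

theorem isIso_map_pullback_snd [PreservesFiniteLimits F] {A B W : C} (f : A ⟶ W) (g : B ⟶ W) [IsIso (F.map f)] :
    IsIso (F.map (pullback.snd f g)) := by
  rw [← PreservesPullback.iso_hom_snd]
  infer_instance

/-- Restriction of a kernel along a monomorphism that becomes an isomorphism. -/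
theorem isIso_map_kernel_map [F.Additive] [PreservesFiniteLimits F] {I J J' : C} (ι : I ⟶ J) (b : J ⟶ J') [Mono ι]
    [IsIso (F.map ι)] :
    IsIso (F.map (kernel.lift b (kernel.ι (ι ≫ b) ≫ ι) (by rw [Category.assoc, kernel.condition]))) := by
  haveI : Mono (kernel.lift b (kernel.ι (ι ≫ b) ≫ ι) (by rw [Category.assoc, kernel.condition])) := by
    haveI : Mono (kernel.ι (ι ≫ b) ≫ ι) := mono_comp _ _
    exact mono_of_mono_fac (kernel.lift_ι _ _ _)
  let l : F.obj (kernel b) ⟶ F.obj (kernel (ι ≫ b)) :=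
    kernel.lift (F.map (ι ≫ b)) (F.map (kernel.ι b) ≫ inv (F.map ι)) (by
      rw [F.map_comp, Category.assoc, IsIso.inv_hom_id_assoc, ← F.map_comp, kernel.condition, F.map_zero]) ≫
      (PreservesKernel.iso F (ι ≫ b)).inv
  haveI : Mono (F.map (kernel.ι b)) := inferInstance
  refine ⟨l, ?_, ?_⟩
  · rw [← cancel_mono (F.map (kernel.ι (ι ≫ b)))]
    simp only [l, Category.assoc, PreservesKernel.iso_inv_ι, kernel.lift_ι, Category.id_comp]
    rw [← Category.assoc, ← F.map_comp, kernel.lift_ι, F.map_comp, Category.assoc, IsIso.hom_inv_id,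
      Category.comp_id]
  · rw [← cancel_mono (F.map (kernel.ι b))]
    simp only [l, Category.assoc, ← F.map_comp, kernel.lift_ι, Category.id_comp]
    rw [F.map_comp (kernel.ι (ι ≫ b)) ι, PreservesKernel.iso_inv_ι_assoc, kernel.lift_ι_assoc,
      Category.assoc, IsIso.inv_hom_id, Category.comp_id]

end Functor

end Groth.Agent.H05EGA4.EtCl.Dev
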