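import Groth.Agent.H05EGA4.EtCl.Dev.CritBase

/-!
# Isomorphisms at a point and low sheaves
-/

set_option autoImplicit false
set_option linter.style.haveILetI false
set_option linter.unusedSectionVars false
set_option linter.overlappingInstances false
set_option backward.isDefEq.respectTransparency false
set_option backward.isDefEq.respectTransparency.types false

universe u

open CategoryTheory CategoryTheory.Limits AlgebraicGeometry Opposite TopologicalSpace Abelian
open scoped Classical

namespace Groth.Agent.H05EGA4.EtCl.Dev.Crit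

open scoped Groth.Agent.H18Et

variable {X : Scheme.{u}} (ℓ N : ℕ)

/-- The hypothesis on extensions by zero of constant sheaves on finite integral schemes. -/
def HConst (X : Scheme.{u}) : Prop :=
  ∀ (T : Scheme.{u}) (h : T ⟶ X) [IsIntegral T] [IsFinite h] (T' : Scheme.{u}) (c : T' ⟶ T) [IsClosedImmersion c]
    (q : ℕ), N < q →
      Subsingleton (EtCoh.H T (kernel ((EtCoh.pullPushAdj c).unit.app (EtCoh.const T (ZMod ℓ)))) q)

/-- Vanishing for sheaves killed by `ℓ` supported in `Z` away from `x`. -/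
def Low (Z : Set X) (x : X) : Prop :=
  ∀ F : EtCoh.Ab X, EtCoh.KilledBy ℓ F → EtPBC.supp F ⊆ Z → x ∉ EtPBC.supp F → ∀ q, N < q →
    Subsingleton (EtCoh.H X F q)

/-- The inverse image at a point. -/
noncomputable abbrev at' (x : X) : EtCoh.Ab X ⥤ EtCoh.Ab (Spec (X.residueField x)) :=
  EtCoh.pull (X.fromSpecResidueField x)

theorem isZero_at_iff (x : X) (D : EtCoh.Ab X) : IsZero ((at' x).obj D) ↔ x ∉ EtPBC.supp D := by
  refine ⟨fun h hx => ?_, fun h => ?_⟩
  · refine notMem_supp_of_pull_isZero (X.fromSpecResidueField x) D h (default : PrimeSpectrum (X.residueField x)) ?_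
    rw [Scheme.fromSpecResidueField_apply]
    exact hx
  · refine isZero_pull_of_notMem_supp (X.fromSpecResidueField x) D fun w => ?_
    rw [Scheme.fromSpecResidueField_apply]
    exact h

theorem isIso_at (x : X) {A B : EtCoh.Ab X} (f : A ⟶ B) (hk : x ∉ EtPBC.supp (kernel f))
    (hc : x ∉ EtPBC.supp (cokernel f)) : IsIso ((at' x).map f) := by
  haveI := H18Et.pull_preservesFiniteLimits (X.fromSpecResidueField x)
  haveI := (EtCoh.pullPushAdj (X.fromSpecResidueField x)).leftAdjoint_preservesColimits
  haveI : Mono ((at' x).map f) := Preadditive.mono_of_isZero_kernel _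
    (((isZero_at_iff x _).2 hk).of_iso (PreservesKernel.iso (at' x) f).symm)
  haveI : Epi ((at' x).map f) := Preadditive.epi_of_isZero_cokernel _
    (((isZero_at_iff x _).2 hc).of_iso (PreservesCokernel.iso (at' x) f).symm)
  exact isIso_of_mono_of_epi _

theorem notMem_kernel (x : X) {A B : EtCoh.Ab X} (f : A ⟶ B) [IsIso ((at' x).map f)] :
    x ∉ EtPBC.supp (kernel f) :=
  (isZero_at_iff x _).1 (isZero_map_kernel_of_isIso _ f)

theorem notMem_cokernel (x : X) {A B : EtCoh.Ab X} (f : A ⟶ B) [IsIso ((at' x).map f)] :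
    x ∉ EtPBC.supp (cokernel f) :=
  (isZero_at_iff x _).1 (isZero_map_cokernel_of_epi _ f)

variable {ℓ N} {Z : Set X} {x : X} (hlow : Low ℓ N Z x)

include hlow

/-- Transfer along a morphism which is an isomorphism at `x`. -/
theorem subsingleton_H_forward {A B : EtCoh.Ab X} (f : A ⟶ B) [IsIso ((at' x).map f)]
    (hA : EtCoh.KilledBy ℓ A) (hAs : EtPBC.supp A ⊆ Z) (hB : EtCoh.KilledBy ℓ B) (hBs : EtPBC.supp B ⊆ Z)
    {q : ℕ} (hq : N < q) (h : Subsingleton (EtCoh.H X A q)) : Subsingleton (EtCoh.H X B q) :=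
  subsingleton_H_of_source f q
    (hlow _ (killedBy_of_mono (kernel.ι f) hA) ((H18Et.Cons.supp_subset_of_mono (kernel.ι f)).trans hAs)
      (notMem_kernel x f) _ (by omega))
    (hlow _ (killedBy_of_epi (cokernel.π f) hB) ((H18Et.Cons.supp_subset_of_epi (cokernel.π f)).trans hBs)
      (notMem_cokernel x f) _ hq) h

end Groth.Agent.H05EGA4.EtCl.Dev.Crit
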