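import Groth.Agent.H05EGA4.EtCl.Dev.Criterion
import Groth.Agent.S0432
import Groth.Agent.S7181
import Groth.Agent.S0593
import Groth.Agent.H28Pinch.Glued

/-!
# Extensions by zero from the double of an integral scheme along a closed subscheme
-/

set_option autoImplicit false
set_option linter.style.haveILetI false
set_option linter.unusedSectionVars false
set_option linter.overlappingInstances false
set_option backward.isDefEq.respectTransparency false
set_option backward.isDefEq.respectTransparency.types false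

universe u

open CategoryTheory CategoryTheory.Limits AlgebraicGeometry Opposite TopologicalSpace Abelian
open scoped Classical

namespace Groth.Agent.H05EGA4.EtCl.Dev.Crit

open scoped Groth.Agent.H18Et

/-- The double of a scheme along a closed subscheme is integral over it. -/
theorem exists_double {T T' : Scheme.{u}} (c : T' ⟶ T) [IsClosedImmersion c] :
    ∃ (W : Scheme.{u}) (a b : T ⟶ W) (π : W ⟶ T), IsClosedImmersion a ∧ IsClosedImmersion b ∧
      IsIntegralHom π ∧ a ≫ π = 𝟙 T ∧ b ≫ π = 𝟙 T ∧ c ≫ a = c ≫ b ∧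
      (∀ w : W, (∃ t, a t = w) ∨ ∃ t, b t = w) ∧ ∀ t t', a t = b t' → t ∈ Set.range c := by
  obtain ⟨W, a, b, hP, hPb, ha, hb⟩ := Groth.Agent.S0432.result c c
  have haff : ∀ y : T, ∃ U : T.Opens, IsAffineOpen U ∧ c ⁻¹' {y} ⊆ (c ⁻¹ᵁ U : Set ↑T') := fun y => by
    obtain ⟨U, hU, hyU, -⟩ := exists_isAffineOpen_mem_and_subset (U := (⊤ : T.Opens)) (x := y) trivial
    exact ⟨U, hU, fun z hz => show c z ∈ U from (show c z = y from hz).symm ▸ hyU⟩
  obtain ⟨-, -, hjs⟩ := H8Props.PushoutProps.pushout_facts c c haff a b hP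
  let π : W ⟶ T := hP.desc (𝟙 T) (𝟙 T) rfl
  have hπa : a ≫ π = 𝟙 T := hP.inl_desc _ _ _
  have hπb : b ≫ π = 𝟙 T := hP.inr_desc _ _ _
  haveI : IsSeparated π :=
    (Groth.Agent.S7181.result c c haff a b hP (𝟙 T) (𝟙 T) π hπa hπb).1 ⟨inferInstance, inferInstance⟩
  haveI : UniversallyClosed (a ≫ π) := by rw [hπa]; infer_instance
  haveI : UniversallyClosed (b ≫ π) := by rw [hπb]; infer_instance
  haveI : UniversallyClosed π := H28Pinch.universallyClosed_of_pair a b π hjs
  let g : T ⨿ T ⟶ W := coprod.desc a b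
  haveI : IsIntegralHom g := inferInstance
  haveI : Surjective g := ⟨fun w => by
    rcases hjs w with ⟨t, ht⟩ | ⟨t, ht⟩
    · exact ⟨(coprod.inl : T ⟶ T ⨿ T) t, by rw [← Scheme.Hom.comp_apply, coprod.inl_desc]; exact ht⟩
    · exact ⟨(coprod.inr : T ⟶ T ⨿ T) t, by rw [← Scheme.Hom.comp_apply, coprod.inr_desc]; exact ht⟩⟩
  haveI : IsAffineHom (g ≫ π) := by
    rw [show g ≫ π = coprod.desc (𝟙 T) (𝟙 T) by simp only [g, coprod.desc_comp, hπa, hπb]]
    infer_instance
  haveI : IsAffineHom π := ⟨fun U hU => by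
    haveI : IsAffine (g ⁻¹ᵁ (π ⁻¹ᵁ U)).toScheme := hU.preimage (g ≫ π)
    haveI : UniversallyClosed (g ∣_ (π ⁻¹ᵁ U)) := inferInstance
    haveI : Surjective (g ∣_ (π ⁻¹ᵁ U)) := IsZariskiLocalAtTarget.restrict (P := @Surjective) inferInstance _
    exact Groth.Agent.S0593.result _ _ (g ∣_ (π ⁻¹ᵁ U))⟩
  refine ⟨W, a, b, π, ha, hb, IsIntegralHom.iff_universallyClosed_and_isAffineHom.2 ⟨inferInstance, inferInstance⟩,
    hπa, hπb, hP.w, hjs, fun t t' h => ?_⟩
  obtain ⟨w, hw, -⟩ := Scheme.exists_preimage_of_isPullback hPb t t' h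
  exact ⟨w, hw⟩

theorem notMem_supp_pull {S W : Scheme.{u}} (a : S ⟶ W) (D : EtCoh.Ab W) (s : S) (h : a s ∉ EtPBC.supp D) :
    s ∉ EtPBC.supp ((EtCoh.pull a).obj D) :=
  (isZero_at_iff s _).1 ((isZero_pull_of_notMem_supp (S.fromSpecResidueField s ≫ a) D fun w => by
    rw [Scheme.Hom.comp_apply, Scheme.fromSpecResidueField_apply]; exact h).of_iso
      ((EtCore.pullComp (S.fromSpecResidueField s) a).app D).symm)

variable {T T' W : Scheme.{u}} (c : T' ⟶ T) [IsClosedImmersion c] (a b : T ⟶ W) [IsClosedImmersion a]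
  [IsClosedImmersion b] (π : W ⟶ T) [IsIntegralHom π] (hπa : a ≫ π = 𝟙 T) (hπb : b ≫ π = 𝟙 T)

include hπb

/-- The part of the double away from one copy has no more cohomology than the double. -/
theorem subsingleton_H_kernel_double (C : EtCoh.Ab T) (q : ℕ)
    (h : Subsingleton (EtCoh.H W ((EtCoh.pull π).obj C) q)) :
    Subsingleton (EtCoh.H W (kernel ((EtCoh.pullPushAdj b).unit.app ((EtCoh.pull π).obj C))) q) := by
  haveI := H15Site.IntDesc.preservesFiniteColimits_push π
  haveI : (EtCoh.push π).IsRightAdjoint := ⟨_, ⟨EtCoh.pullPushAdj π⟩⟩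
  haveI : PreservesFiniteLimits (EtCoh.push π) := inferInstance
  haveI : (EtCoh.push π).Additive := inferInstance
  let D := (EtCoh.pull π).obj C
  let ηb := (EtCoh.pullPushAdj b).unit.app D
  let A := (EtCoh.pullPushAdj π).comp (EtCoh.pullPushAdj b)
  haveI : (EtCoh.push b ⋙ EtCoh.push π).IsEquivalence := Functor.isEquivalence_of_iso
    (show 𝟭 (EtCoh.Ab T) ≅ EtCoh.push b ⋙ EtCoh.push π from
      Functor.sheafPushforwardContinuousIso (F := 𝟭 T.Etale) (F' := EtCoh.bc (𝟙 T)) (H15Site.IntDesc.bcId T)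
        AddCommGrpCat.{u + 1} T.smallEtaleTopology T.smallEtaleTopology ≪≫ EtCoh.pushCongr hπb.symm ≪≫
          (EtCoh.pushComp π b).symm)
  haveI : (EtCoh.pull π ⋙ EtCoh.pull b).IsEquivalence := A.isEquivalence_left_of_isEquivalence_right
  have hA : A.unit.app C = (EtCoh.pullPushAdj π).unit.app C ≫ (EtCoh.push π).map ηb := by
    simp [A, ηb, D, Adjunction.comp_unit_app]
  haveI : IsIso (A.unit.app C) := inferInstance
  let PD := (EtCoh.push π).obj D
  let PB := (EtCoh.push π).obj ((EtCoh.push b).obj ((EtCoh.pull b).obj D))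
  let v : PD ⟶ PB := (EtCoh.push π).map ηb
  let s : PB ⟶ PD := inv (A.unit.app C) ≫ (EtCoh.pullPushAdj π).unit.app C
  have hs : s ≫ v = 𝟙 PB := by
    simp only [s, v, Category.assoc]
    rw [← hA]
    exact IsIso.inv_hom_id (A.unit.app C)
  let ι : (EtCoh.push π).obj (kernel ηb) ⟶ PD := (EtCoh.push π).map (kernel.ι ηb)
  have hr0 : (𝟙 PD - v ≫ s) ≫ v = 0 := by
    rw [Preadditive.sub_comp, Category.assoc, hs, Category.comp_id, Category.id_comp, sub_self]
  let l : PD ⟶ (EtCoh.push π).obj (kernel ηb) := kernel.lift v (𝟙 PD - v ≫ s) hr0 ≫ (PreservesKernel.iso (EtCoh.push π) ηb).inv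
  have hιl : ι ≫ l = 𝟙 _ := by
    have hι : ι ≫ v = 0 := by rw [← Functor.map_comp, kernel.condition, Functor.map_zero]
    have hl : l ≫ ι = 𝟙 PD - v ≫ s := by
      show (kernel.lift v (𝟙 PD - v ≫ s) hr0 ≫ (PreservesKernel.iso (EtCoh.push π) ηb).inv) ≫
        (EtCoh.push π).map (kernel.ι ηb) = _
      rw [Category.assoc, PreservesKernel.iso_inv_ι]
      exact kernel.lift_ι _ _ _
    haveI : Mono ι := inferInstanceAs (Mono ((EtCoh.push π).map (kernel.ι ηb)))
    rw [← cancel_mono ι, Category.assoc, hl]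
    rw [Preadditive.comp_sub, ← Category.assoc, hι, zero_comp, sub_zero, Category.comp_id, Category.id_comp]
  have h1 : Subsingleton (EtCoh.H T ((EtCoh.push π).obj D) q) := by
    obtain ⟨e⟩ := H15Site.IntDesc.nonempty_H_push π D q
    exact Function.Injective.subsingleton (β := EtCoh.H W D q) e.addCommGroupIsoToAddEquiv.injective
  have h2 : Subsingleton (EtCoh.H T ((EtCoh.push π).obj (kernel ηb)) q) := subsingleton_of_forall_eq 0 fun z => by
    rw [← Ext.comp_mk₀_id z, ← hιl, ← Ext.mk₀_comp_mk₀, ← Ext.comp_assoc_of_second_deg_zero,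
      h1.elim (z.comp (Ext.mk₀ ι) (add_zero q)) 0, Ext.zero_comp]
  obtain ⟨e⟩ := H15Site.IntDesc.nonempty_H_push π (kernel ηb) q
  exact Function.Injective.subsingleton (β := EtCoh.H T ((EtCoh.push π).obj (kernel ηb)) q)
    e.symm.addCommGroupIsoToAddEquiv.injective

include hπa

/-- The extension by zero from the open complement as a direct summand. -/
theorem subsingleton_H_kernel_closed (hjs : ∀ w : W, (∃ t, a t = w) ∨ ∃ t, b t = w)
    (hcart : ∀ t t', a t = b t' → t ∈ Set.range c) (hcw : c ≫ a = c ≫ b) (C : EtCoh.Ab T) (q : ℕ)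
    (h : Subsingleton (EtCoh.H W ((EtCoh.pull π).obj C) q)) :
    Subsingleton (EtCoh.H T (kernel ((EtCoh.pullPushAdj c).unit.app C)) q) := by
  let D := (EtCoh.pull π).obj C
  let ηb := (EtCoh.pullPushAdj b).unit.app D
  let ηc := (EtCoh.pullPushAdj c).unit.app C
  let K' := kernel ηb
  haveI := H18Et.pull_preservesFiniteLimits a
  haveI := (EtCoh.pullPushAdj a).leftAdjoint_preservesColimits
  -- the kernel lives on the copy `a`
  haveI := H18Et.isIso_counit_of_liftsEtaleUniv (H18Et.liftsEtaleUniv_of_isClosedImmersion b) ((EtCoh.pull b).obj D)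
  haveI : IsIso ((EtCoh.pull b).map ηb) := by
    haveI : IsIso (𝟙 ((EtCoh.pull b).obj D)) := ⟨⟨𝟙 _, Category.id_comp _, Category.id_comp _⟩⟩
    exact IsIso.of_isIso_fac_right ((EtCoh.pullPushAdj b).left_triangle_components D)
  have hK'b : ∀ t, b t ∉ EtPBC.supp K' := notMem_supp_of_pull_isZero b K' (isZero_map_kernel_of_isIso b ηb)
  have hla : H18Et.LiftsEtaleUniv a := H18Et.liftsEtaleUniv_of_isClosedImmersion a
  obtain ⟨K'', ⟨e⟩⟩ := (H18Et.push_essImage_iff hla a.isClosedEmbedding.isClosed_range K').2 fun w hw =>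
    (hjs w).elim (fun ⟨t, ht⟩ => ⟨t, ht⟩) fun ⟨t, ht⟩ => (hK'b t (ht.symm ▸ hw)).elim
  have h' : Subsingleton (EtCoh.H T K'' q) := by
    have h0 := subsingleton_H_iso e q (subsingleton_H_kernel_double b π hπb C q h)
    obtain ⟨x⟩ := H15Site.IntDesc.nonempty_H_push a K'' q
    exact Function.Injective.subsingleton (β := EtCoh.H W ((EtCoh.push a).obj K'') q)
      x.symm.addCommGroupIsoToAddEquiv.injective
  -- comparison with the kernel on `T`
  haveI := H18Et.isIso_counit_of_liftsEtaleUniv hla K''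
  let e₁ : (EtCoh.pull a).obj D ≅ C :=
    ((EtCore.pullComp a π).app C).symm ≪≫ (EtCore.pullCongr hπa).app C ≪≫ (H15Site.IntDesc.pullIdIso T).app C
  let m : (EtCoh.pull a).obj K' ⟶ C := (EtCoh.pull a).map (kernel.ι ηb) ≫ e₁.hom
  haveI : Mono m := mono_comp _ _
  haveI := H18Et.pull_preservesFiniteLimits c
  have hdis : ∀ t ∈ EtPBC.supp ((EtCoh.pull a).obj K'), t ∉ Set.range c := fun t ht hc => by
    obtain ⟨z, rfl⟩ := hc
    refine notMem_supp_pull a K' (c z) ?_ ht
    rw [← Scheme.Hom.comp_apply, hcw, Scheme.Hom.comp_apply]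
    exact hK'b (c z)
  have hm0 : m ≫ ηc = 0 := by
    have hz : IsZero (Abelian.image (m ≫ ηc)) := by
      refine H18Et.Cons.isZero_of_supp_eq_empty _ fun y hy =>
        hdis y (H18Et.Cons.supp_subset_of_epi (Abelian.factorThruImage (m ≫ ηc)) hy) ?_
      obtain ⟨z, -, hz⟩ := supp_push_subset_image c _ (H18Et.Cons.supp_subset_of_mono (Abelian.image.ι (m ≫ ηc)) hy)
      exact ⟨z, hz⟩
    rw [← Abelian.image.fac (m ≫ ηc), hz.eq_of_src (Abelian.image.ι (m ≫ ηc)) 0, comp_zero]
  let l := kernel.lift ηc m hm0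
  haveI : Mono l := mono_of_mono_fac (kernel.lift_ι ηc m hm0)
  haveI := H18Et.isIso_counit_of_liftsEtaleUniv (H18Et.liftsEtaleUniv_of_isClosedImmersion c) ((EtCoh.pull c).obj C)
  haveI : IsIso ((EtCoh.pull c).map ηc) := by
    haveI : IsIso (𝟙 ((EtCoh.pull c).obj C)) := ⟨⟨𝟙 _, Category.id_comp _, Category.id_comp _⟩⟩
    exact IsIso.of_isIso_fac_right ((EtCoh.pullPushAdj c).left_triangle_components C)
  haveI : Epi l := Preadditive.epi_of_isZero_cokernel l (H18Et.Cons.isZero_of_supp_eq_empty _ fun t ht => by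
    by_cases hc : t ∈ Set.range c
    · obtain ⟨z, rfl⟩ := hc
      exact notMem_supp_of_pull_isZero c (kernel ηc) (isZero_map_kernel_of_isIso c ηc) z
        (H18Et.Cons.supp_subset_of_epi (cokernel.π l) ht)
    · haveI := H18Et.pull_preservesFiniteLimits (T.fromSpecResidueField t)
      haveI : IsIso ((at' t).map m) := by
        refine isIso_at t m (fun hm => ?_) fun hm => ?_
        · exact (isZero_at_iff t _).1 ((at' t).map_isZero (isZero_kernel_of_mono m)) hm
        · refine notMem_supp_pull a (cokernel (kernel.ι ηb)) t (fun hD => ?_)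
            (H18Et.Cons.supp_subset_of_mono ((cokernelCompIsIso ((EtCoh.pull a).map (kernel.ι ηb)) e₁.hom).hom ≫
              (PreservesCokernel.iso (EtCoh.pull a) (kernel.ι ηb)).inv) hm)
          obtain ⟨t', -, ht'⟩ := supp_push_subset_image b _
            (H18Et.Cons.supp_subset_of_mono (Abelian.factorThruCoimage ηb) hD)
          exact hc (hcart t t' ht'.symm)
      haveI : IsIso ((at' t).map l) := by
        haveI : Mono ((at' t).map (kernel.ι ηc)) := inferInstance
        haveI : IsIso ((at' t).map l ≫ (at' t).map (kernel.ι ηc)) := by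
          rw [← Functor.map_comp, kernel.lift_ι]; infer_instance
        haveI : Epi ((at' t).map (kernel.ι ηc)) := epi_of_epi ((at' t).map l) _
        haveI : IsIso ((at' t).map (kernel.ι ηc)) := isIso_of_mono_of_epi _
        exact IsIso.of_isIso_comp_right ((at' t).map l) ((at' t).map (kernel.ι ηc))
      exact notMem_cokernel t l ht)
  haveI : IsIso l := isIso_of_mono_of_epi l
  exact subsingleton_H_iso ((asIso l).symm ≪≫ (EtCoh.pull a).mapIso e.symm ≪≫
    asIso ((EtCoh.pullPushAdj a).counit.app K'')) q h'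

omit hπa hπb c a b π

/-- The hypothesis of the criterion from the constant sheaf on integral schemes over the base. -/
theorem hConst_of_const {X : Scheme.{u}} {ℓ N : ℕ}
    (h : ∀ (W : Scheme.{u}) (g : W ⟶ X) [IsIntegralHom g] (q : ℕ), N < q →
      Subsingleton (EtCoh.H W (EtCoh.const W (ZMod ℓ)) q)) : HConst ℓ N X := by
  intro T hT _ _ T' c _ q hq
  obtain ⟨W, a, b, π, _, _, _, hπa, hπb, hcw, hjs, hcart⟩ := exists_double c
  exact subsingleton_H_kernel_closed c a b π hπa hπb hjs hcart hcw _ q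
    (subsingleton_H_iso (EtCore.pullConst π (ZMod ℓ)) q (h W (π ≫ hT) q hq))

end Groth.Agent.H05EGA4.EtCl.Dev.Crit
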