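import Groth.Agent.H05EGA4.EtCl.Dev.CritBase2

/-!
# The constant sheaf at a point through an integral finite model
-/

set_option autoImplicit false
set_option linter.style.haveILetI false
set_option linter.unusedSectionVars false
set_option linter.overlappingInstances false
set_option backward.isDefEq.respectTransparency false
set_option backward.isDefEq.respectTransparency.types false

universe u

open CategoryTheory CategoryTheory.Limits AlgebraicGeometry Opposite TopologicalSpace Abelian
open scoped Classical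

namespace Groth.Agent.H05EGA4.EtCl.Dev.Crit

open scoped Groth.Agent.H18Et

variable {X : Scheme.{u}}

/-- Direct images from a finite extension of a residue field. -/
noncomputable abbrev R (x : X) (L : Type u) [Field L] [Algebra (X.residueField x) L] :
    EtCoh.Ab (Spec (CommRingCat.of L)) ⥤ EtCoh.Ab X :=
  EtCoh.push (H9GalCoh.Transfer.str (X.residueField x) L) ⋙ EtCoh.push (X.fromSpecResidueField x)

theorem supp_R_subset {x : X} {Z : Set X} (hZ : IsClosed Z) (hxZ : x ∈ Z) (L : Type u) [Field L]
    [Algebra (X.residueField x) L] (G : EtCoh.Ab (Spec (CommRingCat.of L))) :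
    EtPBC.supp ((R x L).obj G) ⊆ Z :=
  fun _ hy => (specializes_of_mem_supp_skyPush _ hy).mem_closed hZ hxZ

variable [AlgebraicGeometry.IsNoetherian X] {ℓ N : ℕ} [hℓ : Fact ℓ.Prime] {Z : Set X} {x : X}
  (hlow : Low ℓ N Z x) (hK : HConst ℓ N X) (hZ : IsClosed Z) (hxZ : x ∈ Z)

include hlow hK hZ hxZ

/-- Subsheaves of the constant sheaf at `x` filling it at `x`. -/
theorem subsingleton_H_full_const (L : Type u) [Field L] [Algebra (X.residueField x) L]
    [FiniteDimensional (X.residueField x) L] (I : EtCoh.Ab X)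
    (ι : I ⟶ (R x L).obj (EtCoh.const _ (ZMod ℓ))) [Mono ι] [IsIso ((at' x).map ι)] {q : ℕ} (hq : N < q) :
    Subsingleton (EtCoh.H X I q) := by
  obtain ⟨T, h, _, _, j, _, hj, hjh⟩ := exists_model x L
  haveI := H18Et.pull_preservesFiniteLimits (X.fromSpecResidueField x)
  haveI : NeZero ℓ := ⟨hℓ.out.ne_zero⟩
  haveI : IsLocallyNoetherian T := LocallyOfFiniteType.isLocallyNoetherian h
  haveI : CompactSpace T := QuasiCompact.compactSpace_of_compactSpace h
  haveI : AlgebraicGeometry.IsNoetherian T := {}
  haveI : LocallyOfFinitePresentation h := inferInstance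
  haveI := H15Site.IntDesc.preservesFiniteColimits_push h
  haveI : (EtCoh.push h).IsRightAdjoint := ⟨_, ⟨EtCoh.pullPushAdj h⟩⟩
  haveI : PreservesFiniteLimits (EtCoh.push h) := inferInstance
  haveI : (EtCoh.push h).Additive := inferInstance
  -- the generic point lies over `x`
  have hgen : h (genericPoint T) = x := by
    rw [← hj (IsLocalRing.closedPoint L), ← Scheme.Hom.comp_apply, hjh, Scheme.Hom.comp_apply]
    exact Scheme.fromSpecResidueField_apply _ _
  have hfib : ∀ t, h t = x → t = genericPoint T := fun t ht =>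
    H18Et.eq_of_specializes_of_isIntegralHom h (x := genericPoint T) (z := t) (ht.trans hgen.symm)
      (genericPoint_specializes t)
  have hspec : ∀ t, x ⤳ h t := fun t => by
    rw [← hgen]
    exact (genericPoint_specializes t).map h.continuous
  -- the comparison
  let CT := EtCoh.const T (ZMod ℓ)
  let η := (EtCoh.pullPushAdj j).unit.app CT
  let J := (R x L).obj (EtCoh.const _ (ZMod ℓ))
  let e0 : (EtCoh.push h).obj ((EtCoh.push j).obj (EtCoh.const _ (ZMod ℓ))) ≅ J :=
    ((EtCoh.pushComp (X.fromSpecResidueField x) (H9GalCoh.Transfer.str (X.residueField x) L) ≪≫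
      EtCoh.pushCongr hjh.symm ≪≫ (EtCoh.pushComp h j).symm).app _).symm
  let W := (EtCoh.push h).obj CT
  let ψ : W ⟶ J := (EtCoh.push h).map η ≫ ((EtCoh.push h).mapIso
    ((EtCoh.push j).mapIso (EtCore.pullConst j (ZMod ℓ))) ≪≫ e0).hom
  haveI : IsIso ((at' x).map ((EtCoh.push h).map η)) := by
    haveI := H18Et.isIso_counit_of_liftsEtaleUniv (liftsEtaleUniv_point L j) ((EtCoh.pull j).obj CT)
    haveI : IsIso ((EtCoh.pull j).map η) := by
      haveI : IsIso (𝟙 ((EtCoh.pull j).obj CT)) := ⟨⟨𝟙 _, Category.id_comp _, Category.id_comp _⟩⟩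
      exact IsIso.of_isIso_fac_right ((EtCoh.pullPushAdj j).left_triangle_components CT)
    have key : ∀ D : EtCoh.Ab T, IsZero ((EtCoh.pull j).obj D) → x ∉ EtPBC.supp ((EtCoh.push h).obj D) :=
      fun D hD hx => by
        obtain ⟨t, ht, htx⟩ := supp_push_subset_image h D hx
        refine notMem_supp_of_pull_isZero j D hD (default : PrimeSpectrum L) ?_
        rw [hj, ← hfib t htx]
        exact ht
    refine isIso_at x _ (fun hm => ?_) fun hm => ?_
    · exact key (kernel η) (isZero_map_kernel_of_isIso j η)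
        (H18Et.Cons.supp_subset_of_mono (PreservesKernel.iso (EtCoh.push h) η).inv hm)
    · exact key (cokernel η) (isZero_map_cokernel_of_epi j η)
        (H18Et.Cons.supp_subset_of_mono (PreservesCokernel.iso (EtCoh.push h) η).inv hm)
  haveI : IsIso ((at' x).map ψ) := by
    rw [Functor.map_comp]
    infer_instance
  haveI : IsIso ((at' x).map (pullback.fst ι ψ)) := isIso_map_pullback_fst (at' x) ι ψ
  haveI : IsIso ((at' x).map (pullback.snd ι ψ)) := isIso_map_pullback_snd (at' x) ι ψ
  -- bounds
  have hW : EtCoh.KilledBy ℓ W := killedBy_map (EtCoh.push h) (killedBy_const ℓ)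
  have hWs : EtPBC.supp W ⊆ Z := fun y hy => by
    obtain ⟨t, -, rfl⟩ := supp_push_subset_image h CT hy
    exact (hspec t).mem_closed hZ hxZ
  let P := pullback ι ψ
  let p₂ : P ⟶ W := pullback.snd ι ψ
  have hP : EtCoh.KilledBy ℓ P := killedBy_of_mono p₂ hW
  have hPs : EtPBC.supp P ⊆ Z := (H18Et.Cons.supp_subset_of_mono p₂).trans hWs
  refine subsingleton_H_forward hlow (pullback.fst ι ψ) hP hPs
    (killedBy_of_mono ι (killedBy_map (R x L) (killedBy_const ℓ)))
    ((H18Et.Cons.supp_subset_of_mono ι).trans (supp_R_subset hZ hxZ L _)) hq ?_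
  -- the closed set where `P` is too small
  let C0 := cokernel p₂
  have hC0 : EtPBC.IsConstructible C0 :=
    H18Et.Cons.isConstructible_quotient (cokernel.π p₂)
      (H18Et.Cons.isConstructible_push_finite h CT (isConstructible_const ℓ))
  have hxC : x ∉ closure (EtPBC.supp C0) := fun hx => by
    obtain ⟨z, hz, hzx⟩ := H18Et.Cons.exists_specializes_of_mem_closure
      (H18Et.Cons.isLocallyConstructible_supp C0 hC0).isConstructible hx
    obtain ⟨t, -, rfl⟩ := supp_push_subset_image h CT (H18Et.Cons.supp_subset_of_epi (cokernel.π p₂) hz)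
    refine notMem_cokernel x p₂ ?_
    rw [← ((hspec t).antisymm hzx).eq] at hz
    exact hz
  let IT : Scheme.IdealSheafData T := Scheme.IdealSheafData.vanishingIdeal
    (⟨h ⁻¹' closure (EtPBC.supp C0), isClosed_closure.preimage h.continuous⟩ : Closeds T)
  let c := IT.subschemeι
  have hrange : Set.range c = h ⁻¹' closure (EtPBC.supp C0) := H17.range_vanishingIdeal_subschemeι _
  let ηc := (EtCoh.pullPushAdj c).unit.app CT
  let K := kernel ηc
  haveI := H18Et.isIso_counit_of_liftsEtaleUniv (H18Et.liftsEtaleUniv_of_isClosedImmersion c) ((EtCoh.pull c).obj CT)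
  haveI : IsIso ((EtCoh.pull c).map ηc) := by
    haveI : IsIso (𝟙 ((EtCoh.pull c).obj CT)) := ⟨⟨𝟙 _, Category.id_comp _, Category.id_comp _⟩⟩
    exact IsIso.of_isIso_fac_right ((EtCoh.pullPushAdj c).left_triangle_components CT)
  have hKc : ∀ t ∈ EtPBC.supp K, h t ∉ closure (EtPBC.supp C0) := fun t ht hm => by
    obtain ⟨s, rfl⟩ : t ∈ Set.range c := by rw [hrange]; exact hm
    exact notMem_supp_of_pull_isZero c K (isZero_map_kernel_of_isIso c ηc) s ht
  let k : (EtCoh.push h).obj K ⟶ W := (EtCoh.push h).map (kernel.ι ηc)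
  have hk0 : k ≫ cokernel.π p₂ = 0 := by
    have hz : IsZero (Abelian.image (k ≫ cokernel.π p₂)) := by
      refine H18Et.Cons.isZero_of_supp_eq_empty _ fun y hy => ?_
      obtain ⟨t, ht, rfl⟩ := supp_push_subset_image h K
        (H18Et.Cons.supp_subset_of_epi (Abelian.factorThruImage (k ≫ cokernel.π p₂)) hy)
      exact hKc t ht (subset_closure (H18Et.Cons.supp_subset_of_mono (Abelian.image.ι (k ≫ cokernel.π p₂)) hy))
    rw [← Abelian.image.fac (k ≫ cokernel.π p₂), hz.eq_of_src (Abelian.image.ι (k ≫ cokernel.π p₂)) 0, comp_zero]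
  let l := Abelian.monoLift p₂ k hk0
  have hl : l ≫ p₂ = k := Abelian.monoLift_comp p₂ k hk0
  haveI : IsIso ((at' x).map k) := by
    refine isIso_at x _ (fun hm => ?_) fun hm => ?_
    · haveI : Mono k := inferInstance
      exact (isZero_at_iff x _).1 ((at' x).map_isZero (isZero_kernel_of_mono k)) hm
    · obtain ⟨t, ht, htx⟩ := supp_push_subset_image h _
        (H18Et.Cons.supp_subset_of_mono (PreservesCokernel.iso (EtCoh.push h) (kernel.ι ηc)).inv hm)
      have h2 : t ∈ EtPBC.supp ((EtCoh.push c).obj ((EtCoh.pull c).obj CT)) :=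
        H18Et.Cons.supp_subset_of_mono (Abelian.factorThruCoimage ηc) ht
      obtain ⟨s, -, rfl⟩ := supp_push_subset_image c _ h2
      refine hxC ?_
      rw [← htx]
      exact hrange.subset ⟨s, rfl⟩
  haveI : IsIso ((at' x).map l) := by
    haveI : IsIso ((at' x).map l ≫ (at' x).map p₂) := by rw [← Functor.map_comp, hl]; infer_instance
    exact IsIso.of_isIso_comp_right ((at' x).map l) ((at' x).map p₂)
  refine subsingleton_H_forward hlow l
    (killedBy_of_mono k hW) ((H18Et.Cons.supp_subset_of_mono k).trans hWs) hP hPs hq ?_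
  obtain ⟨a⟩ := H15Site.IntDesc.nonempty_H_push h K q
  haveI := hK T h IT.subscheme c q hq
  exact Function.Injective.subsingleton (β := EtCoh.H T K q) a.addCommGroupIsoToAddEquiv.injective

end Groth.Agent.H05EGA4.EtCl.Dev.Crit
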