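import Groth.Agent.H05EGA4.EtCl.Dev.CritPoint

/-!
# Cohomological dimension from extensions by zero of constant sheaves on finite integral schemes
-/

set_option autoImplicit false
set_option linter.style.haveILetI false
set_option linter.unusedSectionVars false
set_option linter.overlappingInstances false
set_option backward.isDefEq.respectTransparency false
set_option backward.isDefEq.respectTransparency.types false

universe u

open CategoryTheory CategoryTheory.Limits AlgebraicGeometry Opposite TopologicalSpace Abelian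
open scoped Classical

namespace Groth.Agent.H05EGA4.EtCl.Dev.Crit

open scoped Groth.Agent.H18Et

variable {X : Scheme.{u}} {ℓ : ℕ} [hℓ : Fact ℓ.Prime] {x : X}

/-- Vanishing is inherited by retracts up to a degree prime to `ℓ`. -/
theorem subsingleton_H_retract {J J' : EtCoh.Ab X} (um : J ⟶ J') (cm : J' ⟶ J) (d : ℕ) (hd : ¬ ℓ ∣ d)
    (h : um ≫ cm = d • 𝟙 J) (hJ : EtCoh.KilledBy ℓ J) (q : ℕ)
    (hfull : ∀ (I' : EtCoh.Ab X) (ι' : I' ⟶ J') [Mono ι'] [IsIso ((at' x).map ι')],
      Subsingleton (EtCoh.H X I' q))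
    (I : EtCoh.Ab X) (ι : I ⟶ J) [Mono ι] [IsIso ((at' x).map ι)] : Subsingleton (EtCoh.H X I q) := by
  haveI := H18Et.pull_preservesFiniteLimits (X.fromSpecResidueField x)
  haveI : IsIso ((at' x).map (pullback.snd ι cm)) := isIso_map_pullback_snd (at' x) ι cm
  haveI := hfull (pullback ι cm) (pullback.snd ι cm)
  let s : I ⟶ pullback ι cm := pullback.lift (d • 𝟙 I) (ι ≫ um) (by
    rw [Category.assoc, h, Preadditive.nsmul_comp, Category.id_comp, Preadditive.comp_nsmul, Category.comp_id])
  refine subsingleton_of_forall_eq 0 fun z => ?_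
  have hn : ∀ n : ℕ, z.comp (Ext.mk₀ (n • 𝟙 I)) (add_zero q) = n • z := fun n => by
    rw [show Ext.mk₀ (n • 𝟙 I) = n • Ext.mk₀ (𝟙 I) from map_nsmul Ext.addEquiv₀.symm _ _,
      ← Ext.bilinearComp_apply_apply (h := add_zero q), map_nsmul, Ext.bilinearComp_apply_apply, Ext.comp_mk₀_id]
  have h1 : d • z = 0 := by
    rw [← hn, ← pullback.lift_fst (d • 𝟙 I) (ι ≫ um) (f := ι) (g := cm) (by
      rw [Category.assoc, h, Preadditive.nsmul_comp, Category.id_comp, Preadditive.comp_nsmul, Category.comp_id]),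
      ← Ext.mk₀_comp_mk₀, ← Ext.comp_assoc_of_second_deg_zero,
      Subsingleton.elim (z.comp (Ext.mk₀ s) (add_zero q)) 0, Ext.zero_comp]
  have h2 : ℓ • z = 0 := by
    rw [← hn, H9GalCoh.Dev.nsmul_of_killedBy (killedBy_of_mono ι hJ), Ext.mk₀_zero, Ext.comp_zero]
  exact AddMonoid.addOrderOf_eq_one_iff.1 (Nat.eq_one_of_dvd_coprimes
    (hℓ.out.coprime_iff_not_dvd.2 hd) (addOrderOf_dvd_of_nsmul_eq_zero h2) (addOrderOf_dvd_of_nsmul_eq_zero h1))

omit hℓ in
/-- A direct image along which neighbourhoods lift stays epi after inverse image. -/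
theorem epi_map_push {W : Scheme.{u}} {i : W ⟶ X} (hi : H18Et.LiftsEtaleUniv i) {A B : EtCoh.Ab W}
    (p : A ⟶ B) [Epi p] : Epi ((EtCoh.pull i).map ((EtCoh.push i).map p)) := by
  haveI := H18Et.isIso_counit_of_liftsEtaleUniv hi A
  haveI := H18Et.isIso_counit_of_liftsEtaleUniv hi B
  have h : (EtCoh.pull i).map ((EtCoh.push i).map p) ≫ (EtCoh.pullPushAdj i).counit.app B =
      (EtCoh.pullPushAdj i).counit.app A ≫ p := (EtCoh.pullPushAdj i).counit.naturality p
  rw [show (EtCoh.pull i).map ((EtCoh.push i).map p) =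
    ((EtCoh.pullPushAdj i).counit.app A ≫ p) ≫ inv ((EtCoh.pullPushAdj i).counit.app B) by
      rw [← h, Category.assoc, IsIso.hom_inv_id, Category.comp_id]]
  infer_instance

variable [AlgebraicGeometry.IsNoetherian X] {N : ℕ} {Z : Set X}
  (hlow : Low ℓ N Z x) (hK : HConst ℓ N X) (hZ : IsClosed Z) (hxZ : x ∈ Z)

/-- Base change of the Galois trace to direct images from the point. -/
theorem exists_transfer (L L' : Type u) [Field L] [Field L'] [Algebra (X.residueField x) L] [Algebra L L']
    [Algebra (X.residueField x) L'] [IsScalarTower (X.residueField x) L L'] [FiniteDimensional L L']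
    [Algebra.IsSeparable L L'] (G : EtCoh.Ab (Spec (CommRingCat.of L))) :
    ∃ (um : (R x L).obj G ⟶ (R x L').obj ((EtCoh.pull (H9GalCoh.Transfer.str L L')).obj G))
      (cm : (R x L').obj ((EtCoh.pull (H9GalCoh.Transfer.str L L')).obj G) ⟶ (R x L).obj G),
      um ≫ cm = Module.finrank L L' • 𝟙 _ := by
  let π := H9GalCoh.Transfer.str L L'
  haveI := H9GalCoh.Transfer.etale_str L L'
  haveI : IsFinite π := (IsFinite.SpecMap_iff _).2 (RingHom.finite_algebraMap.2 inferInstance)
  haveI := H18Et.jCont π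
  have hflat : (algebraMap L L').Flat := RingHom.flat_algebraMap_iff.2 inferInstance
  have hd : ∀ y : Spec (CommRingCat.of L), π.finrank y = Module.finrank L L' := fun y => by
    rw [Scheme.Hom.finrank_SpecMap_eq_finrank (RingHom.finite_algebraMap.2 inferInstance) hflat]
    show (algebraMap L L').finrank y = _
    rw [RingHom.finrank_algebraMap, Module.rankAtStalk_eq_finrank_of_free]
    rfl
  let u := (EtCoh.pullPushAdj π).unit.app G
  let c := (H15Site.Shriek.pushPullAdj π).counit.app G
  have huc : u ≫ c = Module.finrank L L' • 𝟙 G := H15Site.Shriek.unit_comp_counit π _ hd G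
  have hstr : π ≫ H9GalCoh.Transfer.str (X.residueField x) L = H9GalCoh.Transfer.str (X.residueField x) L' := by
    show Spec.map _ ≫ Spec.map _ = Spec.map _
    rw [← Spec.map_comp, ← CommRingCat.ofHom_comp, ← IsScalarTower.algebraMap_eq]
  let e : (R x L).obj ((EtCoh.push π).obj ((EtCoh.pull π).obj G)) ≅ (R x L').obj ((EtCoh.pull π).obj G) :=
    (EtCoh.push (X.fromSpecResidueField x)).mapIso
      ((EtCoh.pushComp (H9GalCoh.Transfer.str (X.residueField x) L) π ≪≫ EtCoh.pushCongr hstr).app _)
  refine ⟨(R x L).map u ≫ e.hom, e.inv ≫ (R x L).map c, ?_⟩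
  rw [Category.assoc, e.hom_inv_id_assoc, ← Functor.map_comp, huc, Functor.map_nsmul,
    CategoryTheory.Functor.map_id]

include hlow hK hZ hxZ

/-- Subsheaves of direct images from a point filling them there. -/
theorem subsingleton_H_full : ∀ (n : ℕ) (L : Type u) [Field L] [Algebra (X.residueField x) L]
    [FiniteDimensional (X.residueField x) L] [Algebra.IsSeparable (X.residueField x) L]
    (G : EtCoh.Ab (Spec (CommRingCat.of L))), Finite ((EtCoh.stalk (H9GalCoh.Dev.xi L)).obj G) →
      Nat.card ((EtCoh.stalk (H9GalCoh.Dev.xi L)).obj G) ≤ n → EtCoh.KilledBy ℓ G →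
      ∀ (I : EtCoh.Ab X) (ι : I ⟶ (R x L).obj G) [Mono ι] [IsIso ((at' x).map ι)] (q : ℕ), N < q →
        Subsingleton (EtCoh.H X I q) := by
  intro n
  induction n using Nat.strong_induction_on with
  | _ n ih =>
  intro L _ _ _ _ G hfin hn hG I ι _ _ q hq
  by_cases hz : IsZero G
  · exact subsingleton_H_of_isZero (IsZero.of_mono_eq_zero ι (((R x L).map_isZero hz).eq_of_tgt _ _)) _
  obtain ⟨L', _, _, _, _, hdeg, f, hf, hf0⟩ := exists_mono_const 1 G (by rw [pow_one]; exact hG) hz
  let π := H9GalCoh.Transfer.str L L'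
  let C' := (EtCoh.pull π).obj G
  letI : Algebra (X.residueField x) L' :=
    ((algebraMap L L').comp (algebraMap (X.residueField x) L)).toAlgebra
  haveI : IsScalarTower (X.residueField x) L L' := IsScalarTower.of_algebraMap_eq fun _ => rfl
  haveI : FiniteDimensional (X.residueField x) L' := FiniteDimensional.trans (X.residueField x) L L'
  haveI : Algebra.IsSeparable (X.residueField x) L' := Algebra.IsSeparable.trans (X.residueField x) L L'
  obtain ⟨e⟩ := nonempty_stalk_pull_equiv (L := L') G
  haveI : Finite ((EtCoh.stalk (H9GalCoh.Dev.xi L')).obj C') :=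
    Finite.of_equiv _ e.addCommGroupIsoToAddEquiv.toEquiv.symm
  have hC' : EtCoh.KilledBy ℓ C' := killedBy_map (EtCoh.pull π) hG
  obtain ⟨um, cm, humcm⟩ := exists_transfer (x := x) L L' G
  refine subsingleton_H_retract (x := x) um cm _ hdeg humcm (killedBy_map (R x L) hG) q (fun I' ι' _ _ => ?_) I ι
  -- dévissage along the constant subsheaf
  let p := cokernel.π f
  have hsurj := H9GalCoh.Dev.stalk_surjective (H9GalCoh.Dev.xi L') p
  haveI : Finite ((EtCoh.stalk (H9GalCoh.Dev.xi L')).obj (cokernel f)) := Finite.of_surjective _ hsurj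
  have hlt : Nat.card ((EtCoh.stalk (H9GalCoh.Dev.xi L')).obj (cokernel f)) < n := by
    refine lt_of_lt_of_le ?_ hn
    rw [← Nat.card_congr e.addCommGroupIsoToAddEquiv.toEquiv]
    refine lt_of_le_of_ne (Nat.card_le_card_of_surjective _ hsurj) fun he => hf0 ?_
    have hinj : Function.Injective ((EtCoh.stalk (H9GalCoh.Dev.xi L')).map p) :=
      (hsurj.bijective_of_nat_card_le he.ge).1
    refine AddCommGrpCat.ext fun y => hinj ?_
    rw [← ConcreteCategory.comp_apply, ← Functor.map_comp, cokernel.condition, Functor.map_zero]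
    exact (map_zero ((EtCoh.stalk (H9GalCoh.Dev.xi L')).map p).hom).symm
  have hQ : EtCoh.KilledBy ℓ (cokernel f) := killedBy_of_epi p hC'
  haveI := H18Et.pull_preservesFiniteLimits (X.fromSpecResidueField x)
  haveI : (EtCoh.push (H9GalCoh.Transfer.str (X.residueField x) L')).PreservesEpimorphisms :=
    preservesEpimorphisms_push_str
  haveI := (EtCoh.pullPushAdj (H9GalCoh.Transfer.str (X.residueField x) L')).rightAdjoint_preservesLimits
  haveI := (EtCoh.pullPushAdj (X.fromSpecResidueField x)).rightAdjoint_preservesLimits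
  haveI : PreservesFiniteLimits (R x L') := comp_preservesFiniteLimits _ _
  let b := (R x L').map p
  haveI : Epi ((at' x).map b) :=
    epi_map_push (liftsEtaleUniv_fromSpecResidueField x)
      ((EtCoh.push (H9GalCoh.Transfer.str (X.residueField x) L')).map p)
  let φ := ι' ≫ b
  haveI : Epi ((at' x).map φ) := by
    rw [Functor.map_comp]
    infer_instance
  haveI := (EtCoh.pullPushAdj (X.fromSpecResidueField x)).leftAdjoint_preservesColimits
  haveI : IsIso ((at' x).map (Abelian.image.ι φ)) := by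
    haveI : Epi ((at' x).map (Abelian.image.ι φ)) :=
      epi_of_epi_fac (((at' x).map_comp (Abelian.factorThruImage φ) (Abelian.image.ι φ)).symm.trans
        (congrArg (at' x).map (Abelian.image.fac φ)))
    exact isIso_of_mono_of_epi _
  refine subsingleton_H_mid (shortExact_image₁ φ) ?_
    (ih _ hlt L' (cokernel f) inferInstance le_rfl hQ (Abelian.image φ) (Abelian.image.ι φ) q hq)
  -- the constant part
  let k := kernel.lift b (kernel.ι φ ≫ ι') (by rw [Category.assoc]; exact kernel.condition φ)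
  haveI : IsIso ((at' x).map k) := isIso_map_kernel_map (at' x) ι' b
  haveI : Mono k := by
    haveI : Mono (kernel.ι φ ≫ ι') := mono_comp _ _
    exact mono_of_mono_fac (kernel.lift_ι _ _ _)
  let e' : kernel b ≅ (R x L').obj (EtCoh.const _ (ZMod ℓ)) :=
    (PreservesKernel.iso (R x L') p).symm ≪≫ (R x L').mapIso
      (IsLimit.conePointUniqueUpToIso (limit.isLimit (parallelPair p 0))
        (Abelian.monoIsKernelOfCokernel _ (colimit.isColimit (parallelPair f 0))))
  haveI : IsIso ((at' x).map (k ≫ e'.hom)) := by rw [Functor.map_comp]; infer_instance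
  exact subsingleton_H_full_const hlow hK hZ hxZ L' (kernel φ) (k ≫ e'.hom) hq

/-- Constructible sheaves supported in `Z`. -/
theorem subsingleton_H_cons (C : EtCoh.Ab X) (hC : EtPBC.IsConstructible C) (hk : EtCoh.KilledBy ℓ C)
    (hs : EtPBC.supp C ⊆ Z) (q : ℕ) (hq : N < q) : Subsingleton (EtCoh.H X C q) := by
  let i := X.fromSpecResidueField x
  let G := (EtCoh.pull i).obj C
  let η := (EtCoh.pullPushAdj i).unit.app C
  haveI := H18Et.pull_preservesFiniteLimits i
  haveI := (EtCoh.pullPushAdj i).leftAdjoint_preservesColimits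
  haveI := H18Et.isIso_counit_of_liftsEtaleUniv (liftsEtaleUniv_fromSpecResidueField x) G
  haveI : IsIso ((EtCoh.pull i).map η) := by
    haveI : IsIso (𝟙 G) := ⟨⟨𝟙 _, Category.id_comp _, Category.id_comp _⟩⟩
    exact IsIso.of_isIso_fac_right ((EtCoh.pullPushAdj i).left_triangle_components C)
  haveI : IsIso ((at' x).map (Abelian.image.ι η)) := by
    haveI : Epi ((at' x).map (Abelian.image.ι η)) := by
      haveI : Epi ((at' x).map η) := inferInstanceAs (Epi ((EtCoh.pull i).map η))
      exact epi_of_epi_fac (((at' x).map_comp (Abelian.factorThruImage η) (Abelian.image.ι η)).symm.trans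
        (congrArg (at' x).map (Abelian.image.fac η)))
    exact isIso_of_mono_of_epi _
  refine subsingleton_H_mid (shortExact_image₁ η)
    (hlow _ (killedBy_of_mono (kernel.ι η) hk) ((H18Et.Cons.supp_subset_of_mono (kernel.ι η)).trans hs)
      (notMem_kernel x η) q hq) ?_
  -- base change to the residue field itself
  let κ : Type u := ↥(X.residueField x)
  have hG : EtCoh.KilledBy ℓ G := killedBy_map (EtCoh.pull i) hk
  haveI : Finite ((EtCoh.stalk (H9GalCoh.Dev.xi κ)).obj G) :=
    H18Et.Cons.finite_stalk_of_isConstructible _ (H18Et.Cons.isConstructible_pull i C hC) _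
  let π := H9GalCoh.Transfer.str κ κ
  obtain ⟨e⟩ := nonempty_stalk_pull_equiv (K := κ) (L := κ) G
  let u := (EtCoh.pullPushAdj π).unit.app G
  haveI := H9GalCoh.Transfer.etale_str κ κ
  haveI : IsFinite π := (IsFinite.SpecMap_iff _).2 (RingHom.finite_algebraMap.2 inferInstance)
  haveI := H18Et.jCont π
  let c := (H15Site.Shriek.pushPullAdj π).counit.app G
  have hflat : (algebraMap κ κ).Flat := RingHom.flat_algebraMap_iff.2 inferInstance
  have huc : u ≫ c = Module.finrank κ κ • 𝟙 G := H15Site.Shriek.unit_comp_counit π _ (fun y => by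
    show (Spec.map (CommRingCat.ofHom (algebraMap κ κ))).finrank y = _
    erw [Scheme.Hom.finrank_SpecMap_eq_finrank (RingHom.finite_algebraMap.2 inferInstance) hflat]
    show (algebraMap κ κ).finrank y = _
    rw [RingHom.finrank_algebraMap, Module.rankAtStalk_eq_finrank_of_free]
    rfl) G
  refine subsingleton_H_retract (x := x) ((EtCoh.push i).map u) ((EtCoh.push i).map c) (Module.finrank κ κ)
    (by rw [Module.finrank_self]; exact hℓ.out.not_dvd_one)
    (by rw [← Functor.map_comp, huc, Functor.map_nsmul]; exact congrArg (Module.finrank κ κ • ·) ((EtCoh.push i).map_id G))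
    (killedBy_map (EtCoh.push i) hG) q (fun I' ι' _ _ => ?_) (Abelian.image η) (Abelian.image.ι η)
  exact subsingleton_H_full hlow hK hZ hxZ _ κ ((EtCoh.pull π).obj G)
    (Finite.of_equiv _ e.addCommGroupIsoToAddEquiv.toEquiv.symm) le_rfl (killedBy_map (EtCoh.pull π) hG) I' ι' q hq

omit hlow hxZ x in
theorem exists_maximal_point (hne : Z.Nonempty) : ∃ x ∈ Z, ∀ y ∈ Z, y ⤳ x → y = x := by
  obtain ⟨S, hSf, hSc, hSi, rfl⟩ := TopologicalSpace.NoetherianSpace.exists_finite_set_isClosed_irreducible hZ
  obtain ⟨z, hz⟩ := hne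
  obtain ⟨t₀, ht₀, -⟩ := hz
  obtain ⟨t, ht⟩ := hSf.exists_maximal ⟨t₀, ht₀⟩
  have hgen := (hSi t ht.prop).isGenericPoint_genericPoint (hSc t ht.prop)
  refine ⟨(hSi t ht.prop).genericPoint, ⟨t, ht.prop, hgen.mem⟩, fun y ⟨t', ht', hy⟩ hyx => ?_⟩
  have hsub : t ⊆ t' := fun w hw => ((hgen.specializes hw).mem_closed (hSc t' ht') (hyx.mem_closed (hSc t' ht') hy))
  have hle : t' ⊆ t := ht.2 ht' hsub
  exact (hyx.antisymm (hgen.specializes (hle hy))).eq

omit hlow hZ hxZ x Z in
/-- Vanishing for sheaves killed by `ℓ`. -/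
theorem subsingleton_H_killedBy (F : EtCoh.Ab X) (hF : EtCoh.KilledBy ℓ F) (q : ℕ) (hq : N < q) :
    Subsingleton (EtCoh.H X F q) := by
  suffices h : ∀ Z : Closeds X, ∀ F : EtCoh.Ab X, EtCoh.KilledBy ℓ F → EtPBC.supp F ⊆ (Z : Set X) →
      ∀ q, N < q → Subsingleton (EtCoh.H X F q) from h ⊤ F hF (Set.subset_univ _) q hq
  intro Z
  induction Z using WellFoundedLT.induction with
  | _ Z IH =>
  intro F hF hs q hq
  rcases (Z : Set X).eq_empty_or_nonempty with he | hne
  · exact subsingleton_H_of_isZero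
      (H18Et.Cons.isZero_of_supp_eq_empty F fun y hy => by simpa [he] using hs hy) _
  obtain ⟨x, hxZ, hmax⟩ := exists_maximal_point hK Z.isClosed hne
  have hlow : Low ℓ N (Z : Set X) x := fun F₀ hF₀ hs₀ hx₀ q₀ hq₀ =>
    subsingleton_H_of_constructible ((Z : Set X) \ {x}) q₀ (fun C hC hk hsC => by
      refine IH ⟨closure (EtPBC.supp C), isClosed_closure⟩ (lt_of_le_of_ne ?_ ?_) C hk subset_closure q₀ hq₀
      · exact (closure_minimal (hsC.trans Set.sdiff_subset) Z.isClosed)
      · intro heq
        have hx : x ∈ closure (EtPBC.supp C) := by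
          exact (congrArg (fun W : Closeds X => (W : Set X)) heq).symm.subset hxZ
        obtain ⟨z, hz, hzx⟩ := H18Et.Cons.exists_specializes_of_mem_closure
          (H18Et.Cons.isLocallyConstructible_supp C hC).isConstructible hx
        exact (hsC hz).2 (hmax z (hsC hz).1 hzx))
      F₀ hF₀ fun y hy => ⟨hs₀ hy, fun h => hx₀ (h ▸ hy)⟩
  exact subsingleton_H_of_constructible (Z : Set X) q
    (fun C hC hk hsC => subsingleton_H_cons hlow hK Z.isClosed hxZ C hC hk hsC q hq) F hF hs

omit hlow hZ hxZ x Z in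
/-- **Criterion for the cohomological dimension.** -/
theorem cohDimLEAt_of_hConst : Dix.CohDimLEAt X ℓ N :=
  cohDimLEAt_of_killed N fun F hF q hq => subsingleton_H_killedBy hK F hF q hq

end Groth.Agent.H05EGA4.EtCl.Dev.Crit
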