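import Groth.Agent.H05EGA4.EtCl.Dev.PointVanish

/-!
# Direct images from a point of finite sheaves, by Sylow dévissage
-/

set_option autoImplicit false
set_option linter.style.haveILetI false
set_option linter.unusedSectionVars false
set_option linter.overlappingInstances false
set_option backward.isDefEq.respectTransparency false
set_option backward.isDefEq.respectTransparency.types false

universe u

open CategoryTheory CategoryTheory.Limits AlgebraicGeometry Opposite TopologicalSpace Abelian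

namespace Groth.Agent.H05EGA4.EtCl.Dev

open scoped Groth.Agent.H18Et

/-- Stalks at two geometric points of the same point are equipotent. -/
theorem nonempty_stalk_equiv {Z : Scheme.{u}} (F : EtCoh.Ab Z) {Ω Ω' : Type u} [Field Ω] [IsSepClosed Ω]
    [Field Ω'] [IsSepClosed Ω'] (ξ : Spec (CommRingCat.of Ω) ⟶ Z) (ξ' : Spec (CommRingCat.of Ω') ⟶ Z)
    (h : ξ.base default = ξ'.base default) :
    Nonempty ((EtCoh.stalk ξ).obj F ≅ (EtCoh.stalk ξ').obj F) := by
  obtain ⟨a⟩ := H18Et.LC.stalk_iso_geomPt ξ F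
  obtain ⟨b⟩ := H18Et.LC.stalk_iso_geomPt ξ' F
  exact ⟨a ≪≫ eqToIso (congrArg (fun y => (EtCoh.stalk (H18Et.geomPt y)).obj F) h) ≪≫ b.symm⟩

theorem nonempty_stalk_pull_equiv {K L : Type u} [Field K] [Field L] [Algebra K L]
    (C : EtCoh.Ab (Spec (CommRingCat.of K))) :
    Nonempty ((EtCoh.stalk (H9GalCoh.Dev.xi L)).obj ((EtCoh.pull (H9GalCoh.Transfer.str K L)).obj C) ≅
      (EtCoh.stalk (H9GalCoh.Dev.xi K)).obj C) := by
  haveI : Subsingleton ↥(Spec (CommRingCat.of K)) := inferInstanceAs (Subsingleton (PrimeSpectrum K))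
  obtain ⟨e⟩ := nonempty_stalk_equiv C (H9GalCoh.Dev.xi L ≫ H9GalCoh.Transfer.str K L) (H9GalCoh.Dev.xi K)
    (Subsingleton.elim _ _)
  exact ⟨(H18Et.stalkPullIso (H9GalCoh.Transfer.str K L) (H9GalCoh.Dev.xi L)).app C ≪≫ e⟩

theorem preservesEpimorphisms_push_str {K L : Type u} [Field K] [Field L] [Algebra K L] [FiniteDimensional K L]
    [Algebra.IsSeparable K L] : (EtCoh.push (H9GalCoh.Transfer.str K L)).PreservesEpimorphisms := by
  haveI := H9GalCoh.Transfer.etale_str K L
  haveI : IsFinite (H9GalCoh.Transfer.str K L) := (IsFinite.SpecMap_iff _).2 (RingHom.finite_algebraMap.2 inferInstance)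
  haveI := H18Et.jCont (H9GalCoh.Transfer.str K L)
  haveI := (H15Site.Shriek.pushPullAdj (H9GalCoh.Transfer.str K L)).leftAdjoint_preservesColimits
  infer_instance

/-- A class killed after a finite extension is killed by the degree. -/
theorem subsingleton_H_of_degree {K L : Type u} [Field K] [Field L] [Algebra K L] [FiniteDimensional K L]
    [Algebra.IsSeparable K L] {Y : Scheme.{u}} (G : EtCoh.Ab (Spec (CommRingCat.of K)) ⥤ EtCoh.Ab Y) [G.Additive]
    {ℓ a : ℕ} (hℓ : ℓ.Prime) (hdeg : ¬ ℓ ∣ Module.finrank K L) (C : EtCoh.Ab (Spec (CommRingCat.of K)))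
    (hC : EtCoh.KilledBy (ℓ ^ a) C) (q : ℕ)
    (h : Subsingleton (EtCoh.H Y (G.obj ((EtCoh.push (H9GalCoh.Transfer.str K L)).obj ((EtCoh.pull (H9GalCoh.Transfer.str K L)).obj C))) q)) :
    Subsingleton (EtCoh.H Y (G.obj C) q) := by
  let π := H9GalCoh.Transfer.str K L
  haveI := H9GalCoh.Transfer.etale_str K L
  haveI : IsFinite π := (IsFinite.SpecMap_iff _).2 (RingHom.finite_algebraMap.2 inferInstance)
  haveI := H18Et.jCont π
  have hflat : (algebraMap K L).Flat := RingHom.flat_algebraMap_iff.2 inferInstance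
  have hd : ∀ y : Spec (CommRingCat.of K), π.finrank y = Module.finrank K L := fun y => by
    rw [Scheme.Hom.finrank_SpecMap_eq_finrank (RingHom.finite_algebraMap.2 inferInstance) hflat]
    show (algebraMap K L).finrank y = _
    rw [RingHom.finrank_algebraMap, Module.rankAtStalk_eq_finrank_of_free]
    rfl
  refine subsingleton_of_forall_eq 0 fun x => ?_
  let u := (EtCoh.pullPushAdj π).unit.app C
  let c := (H15Site.Shriek.pushPullAdj π).counit.app C
  have huc : u ≫ c = Module.finrank K L • 𝟙 C := H15Site.Shriek.unit_comp_counit π _ hd C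
  have hn : ∀ n : ℕ, x.comp (Ext.mk₀ (n • 𝟙 (G.obj C))) (add_zero q) = n • x := fun n => by
    rw [show Ext.mk₀ (n • 𝟙 (G.obj C)) = n • Ext.mk₀ (𝟙 (G.obj C)) from map_nsmul Ext.addEquiv₀.symm _ _,
      ← Ext.bilinearComp_apply_apply (h := add_zero q), map_nsmul, Ext.bilinearComp_apply_apply, Ext.comp_mk₀_id]
  have h1 : Module.finrank K L • x = 0 := by
    rw [← hn, ← G.map_id, ← Functor.map_nsmul, ← huc, Functor.map_comp, ← Ext.mk₀_comp_mk₀,
      ← Ext.comp_assoc_of_second_deg_zero, h.elim (x.comp (Ext.mk₀ (G.map u)) (add_zero q)) 0, Ext.zero_comp]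
  have h2 : ℓ ^ a • x = 0 := by
    rw [← hn, ← G.map_id, ← Functor.map_nsmul, H9GalCoh.Dev.nsmul_of_killedBy hC, Functor.map_zero, Ext.mk₀_zero,
      Ext.comp_zero]
  exact AddMonoid.addOrderOf_eq_one_iff.1 (Nat.eq_one_of_dvd_coprimes
    ((hℓ.coprime_iff_not_dvd.2 hdeg).pow_left a)
    (addOrderOf_dvd_of_nsmul_eq_zero h2) (addOrderOf_dvd_of_nsmul_eq_zero h1))

variable {X : Scheme.{u}} {φ : ∀ (Z : Scheme.{u}), (Z ⟶ X) → ℕ}
  {ℓ : ℕ} [hℓ : Fact ℓ.Prime] (hφ : Mono' φ) (h2 : ConstVan φ ℓ) {m : ℕ} (IH : Van φ ℓ m) {r : ℕ} (hr : m ≤ r)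
  {Y : Scheme.{u}} [AlgebraicGeometry.IsNoetherian Y] (g : Y ⟶ X) [IsFinite g] {x : Y} (hx : lev φ g x ≤ m)

include hφ h2 IH hr hx

theorem subsingleton_H_skyPush_finite_aux (a : ℕ) : ∀ (N : ℕ) (L : Type u) [Field L] [Algebra (Y.residueField x) L]
    [FiniteDimensional (Y.residueField x) L] [Algebra.IsSeparable (Y.residueField x) L]
    (C : EtCoh.Ab (Spec (CommRingCat.of L))), Finite ((EtCoh.stalk (H9GalCoh.Dev.xi L)).obj C) →
      Nat.card ((EtCoh.stalk (H9GalCoh.Dev.xi L)).obj C) ≤ N → EtCoh.KilledBy (ℓ ^ a) C →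
      Subsingleton (EtCoh.H Y ((EtCoh.push (Y.fromSpecResidueField x)).obj
        ((EtCoh.push (H9GalCoh.Transfer.str (Y.residueField x) L)).obj C)) (r + 1)) := by
  intro N
  induction N using Nat.strong_induction_on with
  | _ N ih =>
  intro L _ _ _ _ C hfin hN hC
  let κ := Y.residueField x
  let i := Y.fromSpecResidueField x
  by_cases hz : IsZero C
  · exact subsingleton_H_of_isZero ((EtCoh.push i).map_isZero ((EtCoh.push _).map_isZero hz)) _
  obtain ⟨L', _, _, _, _, hdeg, f, hf, hf0⟩ := exists_mono_const a C hC hz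
  let π := H9GalCoh.Transfer.str L L'
  let C' := (EtCoh.pull π).obj C
  letI : Algebra κ L' := ((algebraMap L L').comp (algebraMap κ L)).toAlgebra
  haveI : IsScalarTower κ L L' := IsScalarTower.of_algebraMap_eq fun _ => rfl
  haveI : FiniteDimensional κ L' := FiniteDimensional.trans κ L L'
  haveI : Algebra.IsSeparable κ L' := Algebra.IsSeparable.trans κ L L'
  obtain ⟨e⟩ := nonempty_stalk_pull_equiv (L := L') C
  haveI : Finite ((EtCoh.stalk (H9GalCoh.Dev.xi L')).obj C') := Finite.of_equiv _ e.addCommGroupIsoToAddEquiv.toEquiv.symm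
  have hC' : EtCoh.KilledBy (ℓ ^ a) C' := killedBy_map (EtCoh.pull π) hC
  let Q := cokernel f
  let p := cokernel.π f
  have hsurj := H9GalCoh.Dev.stalk_surjective (H9GalCoh.Dev.xi L') p
  haveI : Finite ((EtCoh.stalk (H9GalCoh.Dev.xi L')).obj Q) := Finite.of_surjective _ hsurj
  have hlt : Nat.card ((EtCoh.stalk (H9GalCoh.Dev.xi L')).obj Q) < N := by
    refine lt_of_lt_of_le ?_ hN
    rw [← Nat.card_congr e.addCommGroupIsoToAddEquiv.toEquiv]
    refine lt_of_le_of_ne (Nat.card_le_card_of_surjective _ hsurj) fun he => hf0 ?_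
    have hinj : Function.Injective ((EtCoh.stalk (H9GalCoh.Dev.xi L')).map p) :=
      (hsurj.bijective_of_nat_card_le he.ge).1
    refine AddCommGrpCat.ext fun y => hinj ?_
    rw [← ConcreteCategory.comp_apply, ← Functor.map_comp, cokernel.condition, Functor.map_zero]
    exact (map_zero ((EtCoh.stalk (H9GalCoh.Dev.xi L')).map p).hom).symm
  have hQ : EtCoh.KilledBy (ℓ ^ a) Q := H9GalCoh.Dev.killedBy_of_nsmul (by
    rw [← cancel_epi p, comp_zero, Preadditive.comp_nsmul, Category.comp_id,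
      ← Category.id_comp p, ← Preadditive.nsmul_comp, H9GalCoh.Dev.nsmul_of_killedBy hC', zero_comp])
  let P := EtCoh.push (H9GalCoh.Transfer.str κ L')
  haveI : P.PreservesEpimorphisms := preservesEpimorphisms_push_str
  haveI := (EtCoh.pullPushAdj (H9GalCoh.Transfer.str κ L')).rightAdjoint_preservesLimits
  have hmain : Subsingleton (EtCoh.H Y ((EtCoh.push i).obj (P.obj C')) (r + 1)) := by
    refine subsingleton_H_skyPush_mid hφ IH hr g hx (P.map p) (isPrimaryTorsion_killed (killedBy_map P hQ)) ?_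
      (ih _ hlt L' Q inferInstance le_rfl hQ)
    refine subsingleton_H_iso ((EtCoh.push i).mapIso ((PreservesKernel.iso P p).symm ≪≫ P.mapIso ?_)) _
      (subsingleton_H_skyPush_const hφ h2 IH hr g hx L')
    exact (IsLimit.conePointUniqueUpToIso (limit.isLimit (parallelPair p 0))
      (Abelian.monoIsKernelOfCokernel _ (colimit.isColimit (parallelPair f 0))))
  refine subsingleton_H_of_degree (L := L') (EtCoh.push (H9GalCoh.Transfer.str κ L) ⋙ EtCoh.push i) hℓ.out hdeg C hC _ ?_
  have hstr : π ≫ H9GalCoh.Transfer.str κ L = H9GalCoh.Transfer.str κ L' := by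
    show Spec.map _ ≫ Spec.map _ = Spec.map _
    rw [← Spec.map_comp]
    rfl
  exact subsingleton_H_iso ((EtCoh.push i).mapIso ((EtCoh.pushComp (H9GalCoh.Transfer.str κ L) π ≪≫ EtCoh.pushCongr hstr).app C'))
    _ hmain

/-- Direct images from a point of finite sheaves. -/
theorem subsingleton_H_skyPush_finite (a : ℕ) (C : EtCoh.Ab (Spec (Y.residueField x)))
    (hfin : Finite ((EtCoh.stalk (H9GalCoh.Dev.xi (Y.residueField x))).obj C))
    (hC : EtCoh.KilledBy (ℓ ^ a) C) :
    Subsingleton (EtCoh.H Y ((EtCoh.push (Y.fromSpecResidueField x)).obj C) (r + 1)) := by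
  refine subsingleton_H_of_degree (K := ↥(Y.residueField x)) (L := ↥(Y.residueField x)) (EtCoh.push (Y.fromSpecResidueField x)) hℓ.out (by
    rw [Module.finrank_self]; exact hℓ.out.not_dvd_one) C hC _ ?_
  obtain ⟨e⟩ := nonempty_stalk_pull_equiv (K := ↥(Y.residueField x)) (L := ↥(Y.residueField x)) C
  refine subsingleton_H_skyPush_finite_aux hφ h2 IH hr g hx a _ ↥(Y.residueField x) ((EtCoh.pull (H9GalCoh.Transfer.str ↥(Y.residueField x) ↥(Y.residueField x))).obj C) ?_ le_rfl
    (killedBy_map (EtCoh.pull _) hC)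
  exact Finite.of_equiv _ e.addCommGroupIsoToAddEquiv.toEquiv.symm

end Groth.Agent.H05EGA4.EtCl.Dev
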