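import Groth.Agent.H9GalCoh.Devissage
import Groth.Agent.H18Et.EtaleRestrict

/-!
# A constant subsheaf after an extension of degree prime to `ℓ`
-/

set_option autoImplicit false
set_option linter.style.haveILetI false
set_option linter.unusedSectionVars false
set_option linter.overlappingInstances false
set_option backward.isDefEq.respectTransparency false
set_option backward.isDefEq.respectTransparency.types false

universe u

open CategoryTheory CategoryTheory.Limits AlgebraicGeometry Opposite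

namespace Groth.Agent.H05EGA4.EtCl.Dev

open scoped Groth.Agent.H18Et
open Groth.Agent.H9GalCoh

theorem exists_prime_order {A : Type*} [AddCommMonoid A] (ℓ a : ℕ) (s : A) (hs : s ≠ 0) (h : ℓ ^ a • s = 0) :
    ∃ s₁ : A, s₁ ≠ 0 ∧ ℓ • s₁ = 0 := by
  induction a generalizing s with
  | zero => exact absurd (by simpa using h) hs
  | succ a ih =>
    by_cases h' : ℓ ^ a • s = 0
    · exact ih s hs h'
    · exact ⟨ℓ ^ a • s, h', by rw [smul_smul, ← pow_succ']; exact h⟩

variable {K : Type u} [Field K] {ℓ : ℕ} [hℓ : Fact ℓ.Prime]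

/-- A Sylow subgroup fixes a nonzero section killed by `ℓ`. -/
theorem exists_fixed (M : Type u) [Field M] [Algebra K M] [FiniteDimensional K M] [IsGalois K M]
    (F : EtCoh.Ab (Spec (CommRingCat.of K))) (P : Sylow ℓ (M ≃ₐ[K] M))
    (s₁ : F.obj.obj (op (Transfer.sp K M))) (h0 : s₁ ≠ 0) (hp : ℓ • s₁ = 0) :
    ∃ b : F.obj.obj (op (Transfer.sp K M)), b ≠ 0 ∧ ℓ • b = 0 ∧
      ∀ σ ∈ (P : Subgroup (M ≃ₐ[K] M)), F.obj.map (H1Galois.gm M σ).op b = b := by
  classical
  let G := M ≃ₐ[K] M
  let act : G → F.obj.obj (op (Transfer.sp K M)) → F.obj.obj (op (Transfer.sp K M)) :=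
    fun σ x => F.obj.map (H1Galois.gm M σ).op x
  have hone : ∀ x, act 1 x = x := fun x => by
    have e : H1Galois.gm M (1 : G) = 𝟙 _ := MorphismProperty.Over.Hom.ext (Spec.map_id _)
    change F.obj.map (H1Galois.gm M (1 : G)).op x = x
    rw [e, op_id, CategoryTheory.Functor.map_id]
    rfl
  let H : AddSubgroup (F.obj.obj (op (Transfer.sp K M))) := AddSubgroup.closure (Set.range fun σ : G => act σ s₁)
  have hHp : ∀ x ∈ H, ℓ • x = 0 := fun x hx => by
    refine AddSubgroup.closure_induction (p := fun x _ => ℓ • x = 0) ?_ (smul_zero _)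
      (fun x y _ _ hx hy => by rw [smul_add, hx, hy, add_zero]) (fun x _ hx => by rw [smul_neg, hx, neg_zero]) hx
    rintro _ ⟨σ, rfl⟩
    exact (map_nsmul _ _ _).symm.trans ((congrArg (act σ) hp).trans (map_zero _))
  have hHG : ∀ σ : G, ∀ x ∈ H, act σ x ∈ H := fun σ x hx => by
    refine AddSubgroup.closure_induction (p := fun x _ => act σ x ∈ H) ?_ ?_
      (fun x y _ _ hx hy => ?_) (fun x _ hx => ?_) hx
    · rintro _ ⟨τ, rfl⟩
      exact AddSubgroup.subset_closure ⟨σ * τ, H1Galois.map_gm_mul M F σ τ s₁⟩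
    · show F.obj.map (H1Galois.gm M σ).op 0 ∈ H
      rw [map_zero]; exact H.zero_mem
    · show F.obj.map (H1Galois.gm M σ).op (x + y) ∈ H
      rw [map_add]; exact H.add_mem hx hy
    · show F.obj.map (H1Galois.gm M σ).op (-x) ∈ H
      rw [map_neg]; exact H.neg_mem hx
  haveI : AddGroup.FG H := (AddGroup.fg_iff_addSubgroup_fg H).2 ((AddSubgroup.fg_iff H).2 ⟨_, rfl, Set.finite_range _⟩)
  haveI : Finite H := AddCommGroup.finite_of_fg_isAddTorsion H fun x =>
    isOfFinAddOrder_iff_nsmul_eq_zero.2 ⟨ℓ, hℓ.out.pos, Subtype.ext (hHp x x.2)⟩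
  letI : MulAction (P : Subgroup G) H :=
    { smul := fun σ x => ⟨act σ.1 x, hHG σ.1 x x.2⟩
      one_smul := fun x => Subtype.ext (hone x)
      mul_smul := fun σ τ x => Subtype.ext (H1Galois.map_gm_mul M F σ.1 τ.1 x) }
  have hdvd : ℓ ∣ Nat.card H := by
    refine (addOrderOf_eq_prime (x := (⟨s₁, AddSubgroup.subset_closure ⟨1, hone s₁⟩⟩ : H))
      (Subtype.ext hp) (fun h => h0 (congrArg Subtype.val h))).symm.dvd.trans ?_
    exact addOrderOf_dvd_natCard _
  obtain ⟨b, hb, hb0⟩ := P.isPGroup'.exists_fixed_point_of_prime_dvd_card_of_fixed_point H hdvd (a := 0)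
    (fun σ => Subtype.ext (map_zero (F.obj.map (H1Galois.gm M σ.1).op).hom))
  exact ⟨b.1, fun h => hb0 (Subtype.ext h.symm), hHp _ b.2, fun σ hσ => congrArg Subtype.val (hb ⟨σ, hσ⟩)⟩

/-- Descent of a fixed section to the fixed field. -/
theorem exists_section_restrict (L : Type u) [Field L] [Algebra K L] [FiniteDimensional K L] [Algebra.IsSeparable K L]
    (M : Type u) [Field M] [Algebra K M] [Algebra L M] [IsScalarTower K L M]
    [FiniteDimensional K M] [IsGalois K M] [AlgebraicGeometry.Etale (Transfer.str K L)]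
    (F : EtCoh.Ab (Spec (CommRingCat.of K))) (b : F.obj.obj (op (Transfer.sp K M))) (hb0 : b ≠ 0) (hbℓ : ℓ • b = 0)
    (hb : ∀ σ : M ≃ₐ[L] M, F.obj.map (H1Galois.gm M (σ.restrictScalars K)).op b = b) :
    ∃ t : ((H18Et.EtaleRestrict.res (Transfer.str K L)).obj F).obj.obj (op (EtCoh.top (Spec (CommRingCat.of L)))),
      t ≠ 0 ∧ ℓ • t = 0 := by
  haveI : FiniteDimensional L M := Module.Finite.of_restrictScalars_finite K L M
  haveI : IsGalois L M := IsGalois.tower_top_of_isGalois K L M
  let j := Transfer.str K L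
  let em := H18Et.EtaleRestrict.emap j
  let F' := (H18Et.EtaleRestrict.res j).obj F
  have hstr : Transfer.str L M ≫ j = Transfer.str K M := by
    show Spec.map _ ≫ Spec.map _ = Spec.map _
    rw [← Spec.map_comp, ← CommRingCat.ofHom_comp, ← IsScalarTower.algebraMap_eq]
  let e : em.obj (Transfer.sp L M) ⟶ Transfer.sp K M :=
    MorphismProperty.Over.homMk (𝟙 (Spec (CommRingCat.of M))) (by
      show 𝟙 _ ≫ Transfer.str K M = Transfer.str L M ≫ j
      rw [Category.id_comp, hstr])
  let e' : Transfer.sp K M ⟶ em.obj (Transfer.sp L M) :=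
    MorphismProperty.Over.homMk (𝟙 (Spec (CommRingCat.of M))) (by
      show 𝟙 _ ≫ Transfer.str L M ≫ j = Transfer.str K M
      rw [Category.id_comp, hstr])
  have hee : e' ≫ e = 𝟙 _ := MorphismProperty.Over.Hom.ext (Category.id_comp _)
  have hinj : Function.Injective (F.obj.map e.op) := fun x y h => by
    have := congrArg (F.obj.map e'.op) h
    rwa [← ConcreteCategory.comp_apply, ← ConcreteCategory.comp_apply, ← Functor.map_comp, ← op_comp, hee,
      op_id, CategoryTheory.Functor.map_id] at this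
  let b' : F'.obj.obj (op (Transfer.sp L M)) := F.obj.map e.op b
  obtain ⟨t, ht⟩ := Transfer.exists_descent L M F' b' fun σ g hg => by
    show F.obj.map (em.map g).op (F.obj.map e.op b) = F.obj.map e.op b
    have hge : em.map g ≫ e = e ≫ H1Galois.gm M (σ.restrictScalars K) := by
      refine MorphismProperty.Over.Hom.ext ?_
      show g.left ≫ 𝟙 _ = 𝟙 _ ≫ Spec.map _
      rw [Category.comp_id, Category.id_comp, hg]
      rfl
    rw [← ConcreteCategory.comp_apply, ← Functor.map_comp, ← op_comp, hge, op_comp, Functor.map_comp,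
      ConcreteCategory.comp_apply, hb σ]
  refine ⟨t, fun h => hb0 (hinj ?_), Transfer.res_injective L M F' ?_⟩
  · show b' = F.obj.map e.op 0
    rw [← ht, h, map_zero, map_zero]
  · rw [map_nsmul, ht, map_zero]
    show ℓ • F.obj.map e.op b = 0
    rw [← map_nsmul, hbℓ, map_zero]

/-- A constant subsheaf after an extension of degree prime to `ℓ`. -/
theorem exists_mono_const (a : ℕ) (C : EtCoh.Ab (Spec (CommRingCat.of K)))
    (hC : EtCoh.KilledBy (ℓ ^ a) C) (hne : ¬ IsZero C) :
    ∃ (L : Type u) (_ : Field L) (_ : Algebra K L) (_ : FiniteDimensional K L) (_ : Algebra.IsSeparable K L),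
      ¬ ℓ ∣ Module.finrank K L ∧
      ∃ f : EtCoh.const (Spec (CommRingCat.of L)) (ZMod ℓ) ⟶ (EtCoh.pull (Transfer.str K L)).obj C,
        Mono f ∧ (EtCoh.stalk (H9GalCoh.Dev.xi L)).map f ≠ 0 := by
  classical
  obtain ⟨M, _, _, _, _, s, hs⟩ : ∃ (M : Type u) (_ : Field M) (_ : Algebra K M) (_ : FiniteDimensional K M)
      (_ : IsGalois K M) (s : C.obj.obj (op (Transfer.sp K M))), s ≠ 0 := by
    by_contra hcon
    push Not at hcon
    refine hne ((IsZero.iff_id_eq_zero _).2 (Sheaf.hom_ext ?_))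
    refine NatTrans.ext (funext fun W => AddCommGrpCat.ext fun s => ?_)
    change s = 0
    exact Sect.eq_zero_of_galois C (fun M _ _ _ _ s => hcon M _ _ _ ‹_› s) W.unop s
  obtain ⟨s₁, hs₁, hs₁p⟩ := exists_prime_order ℓ a s hs (hC _ s)
  let P : Sylow ℓ (M ≃ₐ[K] M) := default
  obtain ⟨b, hb0, hbℓ, hb⟩ := exists_fixed M C P s₁ hs₁ hs₁p
  let L := IntermediateField.fixedField (P : Subgroup (M ≃ₐ[K] M))
  haveI : Algebra.IsSeparable K L := inferInstance
  haveI := Transfer.etale_str K L
  obtain ⟨t, ht, htℓ⟩ := exists_section_restrict (ℓ := ℓ) L M C b hb0 hbℓ fun σ => hb _ (by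
    rw [← IntermediateField.fixingSubgroup_fixedField (P : Subgroup (M ≃ₐ[K] M))]
    exact fun x => σ.commutes x)
  obtain ⟨f, hf, hf0⟩ := H9GalCoh.Dev.exists_mono_of_section
    ((H18Et.EtaleRestrict.res (Transfer.str K L)).obj C) t ht htℓ
  refine ⟨L, inferInstance, inferInstance, inferInstance, inferInstance, ?_,
    f ≫ ((H18Et.EtaleRestrict.pullIso (Transfer.str K L)).app C).inv, mono_comp _ _, fun h => hf0 ?_⟩
  · have h1 : Module.finrank K L = (P : Subgroup (M ≃ₐ[K] M)).index := by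
      rw [IntermediateField.finrank_eq_fixingSubgroup_index, IntermediateField.fixingSubgroup_fixedField]
    rw [h1]
    exact P.not_dvd_index
  · rw [Functor.map_comp] at h
    exact (cancel_mono ((EtCoh.stalk (H9GalCoh.Dev.xi L)).map ((H18Et.EtaleRestrict.pullIso (Transfer.str K L)).app C).inv)).1
      (h.trans zero_comp.symm)

end Groth.Agent.H05EGA4.EtCl.Dev
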