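import Groth.Agent.H05EGA4.EtCl.DimFun
import Groth.Agent.H05EGA4.EtCl.Lifts
import Groth.Agent.H18Et.Cons.TorsionSupp
import Groth.Agent.H22Alg.RedIntegral
import Groth.Agent.H15Site.IntDesc.PushH

/-!
# Supports and levels for the dévissage to constant sheaves on integral finite schemes
-/

set_option autoImplicit false
set_option linter.style.haveILetI false
set_option linter.unusedSectionVars false
set_option linter.overlappingInstances false
set_option backward.isDefEq.respectTransparency false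
set_option backward.isDefEq.respectTransparency.types false

universe u

open CategoryTheory CategoryTheory.Limits AlgebraicGeometry Opposite TopologicalSpace Abelian

namespace Groth.Agent.H05EGA4.EtCl.Dev

open scoped Groth.Agent.H18Et

variable {Y : Scheme.{u}}

/-- The reduced closed subscheme on the closure of a point. -/
noncomputable abbrev cl (y : Y) : Scheme.{u} :=
  (Scheme.IdealSheafData.vanishingIdeal (⟨closure {y}, isClosed_closure⟩ : Closeds Y)).subscheme

/-- Its inclusion. -/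
noncomputable abbrev clι (y : Y) : cl y ⟶ Y :=
  (Scheme.IdealSheafData.vanishingIdeal (⟨closure {y}, isClosed_closure⟩ : Closeds Y)).subschemeι

instance isIntegral_cl (y : Y) : IsIntegral (cl y) := H22Alg.isIntegral_vanishingIdeal_closure y

theorem range_clι (y : Y) : Set.range (clι y) = closure {y} := H17.range_vanishingIdeal_subschemeι _

theorem exists_lift_cl {T : Scheme.{u}} [IsReduced T] (f : T ⟶ Y) (y : Y) (h : ∀ t, y ⤳ f t) :
    ∃ g : T ⟶ cl y, g ≫ clι y = f :=
  H17.exists_lift_immersion_of_range_subset f (clι y) (by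
    rintro _ ⟨t, rfl⟩
    rw [range_clι]
    exact (h t).mem_closure)

section Level

variable {X : Scheme.{u}} (φ : ∀ (Z : Scheme.{u}), (Z ⟶ X) → ℕ)

/-- The conditions on a dimension function. -/
def Mono' : Prop :=
  ∀ (Y₁ Y₂ : Scheme.{u}) (g₁ : Y₁ ⟶ X) (g₂ : Y₂ ⟶ X) [IsIntegral Y₁] [IsIntegral Y₂] [IsFinite g₁] [IsFinite g₂]
    (m : Y₁ ⟶ Y₂), m ≫ g₂ = g₁ → φ Y₁ g₁ ≤ φ Y₂ g₂ ∧ (IsClosedImmersion m → ¬ IsIso m → φ Y₁ g₁ < φ Y₂ g₂)

/-- The level of a point. -/
noncomputable def lev (g : Y ⟶ X) (y : Y) : ℕ := φ (cl y) (clι y ≫ g)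

variable {φ} (hφ : Mono' φ) (g : Y ⟶ X) [IsFinite g]

include hφ

theorem lev_lt {x y : Y} (h : x ⤳ y) (hne : x ≠ y) : lev φ g y < lev φ g x := by
  obtain ⟨m, hm⟩ := exists_lift_cl (clι y) x fun t => h.trans (specializes_iff_mem_closure.2
    ((range_clι y).subset ⟨t, rfl⟩))
  haveI : IsClosedImmersion (m ≫ clι x) := by rw [hm]; infer_instance
  haveI : IsClosedImmersion m := IsClosedImmersion.of_comp m (clι x)
  refine (hφ _ _ _ _ m (by rw [← Category.assoc, hm])).2 ‹_› fun hiso => hne ?_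
  obtain ⟨t, ht⟩ : x ∈ Set.range (clι x) := by rw [range_clι]; exact subset_closure rfl
  have hx : x ∈ Set.range (clι y) := ⟨inv m t, by
    rw [← hm, ← Scheme.Hom.comp_apply, IsIso.inv_hom_id_assoc]
    exact ht⟩
  rw [range_clι] at hx
  exact (h.antisymm (specializes_iff_mem_closure.2 hx)).eq

theorem le_lev {T : Scheme.{u}} [IsIntegral T] (f : T ⟶ Y) [IsFinite f] (y : Y) (h : f (genericPoint T) = y) :
    φ T (f ≫ g) ≤ lev φ g y := by
  obtain ⟨m, hm⟩ := exists_lift_cl f y fun t => by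
    rw [← h]
    exact (genericPoint_specializes t).map f.continuous
  exact (hφ _ _ _ _ m (by rw [← Category.assoc, hm])).1

theorem lev_le_of_integral {T : Scheme.{u}} [IsIntegral T] (f : T ⟶ X) [IsFinite f] (t : T) :
    lev φ f t ≤ φ T f :=
  (hφ _ _ _ _ (clι t) rfl).1

theorem lev_lt_of_ne {T : Scheme.{u}} [IsIntegral T] (f : T ⟶ X) [IsFinite f] (t : T) (ht : t ≠ genericPoint T) :
    lev φ f t < φ T f := by
  refine (hφ _ _ _ _ (clι t) rfl).2 inferInstance fun hiso => ht ?_
  have hx : genericPoint T ∈ Set.range (clι t) := ⟨inv (clι t) (genericPoint T), by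
    rw [← Scheme.Hom.comp_apply, IsIso.inv_hom_id]
    rfl⟩
  rw [range_clι] at hx
  exact ((genericPoint_specializes t).antisymm (specializes_iff_mem_closure.2 hx)).eq.symm

end Level

section Supp

theorem notMem_supp_of_pull_isZero {Z : Scheme.{u}} (j : Z ⟶ Y) (D : EtCoh.Ab Y)
    (h : IsZero ((EtCoh.pull j).obj D)) (z : Z) : j z ∉ EtPBC.supp D := by
  have h0 := (H18Et.isZero_iff_stalk _).1 h _ (H18Et.geomPt z)
  have h1 := h0.of_iso ((H18Et.stalkPullIso j (H18Et.geomPt z)).app D).symm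
  haveI : Subsingleton ((EtCoh.stalk (H18Et.geomPt z ≫ j)).obj D) := AddCommGrpCat.subsingleton_of_isZero h1
  have := H18Et.Cons.notMem_supp_of_subsingleton D (H18Et.geomPt z ≫ j)
  rwa [Scheme.Hom.comp_apply, H18Et.geomPt_base] at this

theorem specializes_of_mem_supp_skyPush {x : Y} (B : EtCoh.Ab (Spec (Y.residueField x))) {y : Y}
    (hy : y ∈ EtPBC.supp ((Dix.skyPush Y x).obj B)) : x ⤳ y := by
  by_contra h
  obtain ⟨V, v, s, hv, hs⟩ := (H18Et.mem_supp_iff _ y (H18Et.geomPt y) (H18Et.geomPt_base y)).1 hy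
  obtain ⟨O, hvO, hO⟩ := exists_avoid V v ({()} : Finset Unit) (fun _ => x) fun _ _ hsp => h (hv ▸ hsp)
  refine notMem_supp_of_map (subι V O) (⟨v, hvO⟩ : (sub V O).left) ?_ hs
  rw [show ((Dix.skyPush Y x).obj B).obj.map (subι V O).op s = 0 from
    res_skyPush_eq_zero B (sub V O) (fun w hw => hO () (Finset.mem_singleton_self _) w hw) _]
  exact fun hm => hm _ (𝟙 _) ⟨_, rfl⟩ (map_zero _)

end Supp

section Exact

variable {q : ℕ}

theorem subsingleton_H_mid {S : ShortComplex (EtCoh.Ab Y)} (hS : S.ShortExact)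
    (h₁ : Subsingleton (EtCoh.H Y S.X₁ q)) (h₃ : Subsingleton (EtCoh.H Y S.X₃ q)) :
    Subsingleton (EtCoh.H Y S.X₂ q) :=
  subsingleton_of_forall_eq 0 fun ξ => by
    obtain ⟨a, ha⟩ := Ext.covariant_sequence_exact₂ _ hS ξ (h₃.elim _ _)
    rw [← ha, h₁.elim a 0, Ext.zero_comp]

theorem subsingleton_H_left {S : ShortComplex (EtCoh.Ab Y)} (hS : S.ShortExact) (r : ℕ)
    (h₂ : Subsingleton (EtCoh.H Y S.X₂ (r + 1))) (h₃ : Subsingleton (EtCoh.H Y S.X₃ r)) :
    Subsingleton (EtCoh.H Y S.X₁ (r + 1)) :=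
  subsingleton_of_forall_eq 0 fun ξ => by
    obtain ⟨a, ha⟩ := Ext.covariant_sequence_exact₁ _ hS ξ (h₂.elim _ _) (rfl : r + 1 = r + 1)
    rw [← ha, h₃.elim a 0, Ext.zero_comp]

theorem shortExact_image₁ {A B : EtCoh.Ab Y} (f : A ⟶ B) :
    (ShortComplex.mk (kernel.ι f) (Abelian.factorThruImage f) (by
      rw [← cancel_mono (Abelian.image.ι f), Category.assoc, Abelian.image.fac, kernel.condition, zero_comp])).ShortExact := by
  letI S₁ : ShortComplex (EtCoh.Ab Y) := ShortComplex.mk (kernel.ι f) (Abelian.factorThruImage f) (by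
      rw [← cancel_mono (Abelian.image.ι f), Category.assoc, Abelian.image.fac, kernel.condition, zero_comp])
  haveI : Mono S₁.f := inferInstanceAs (Mono (kernel.ι f))
  haveI : Epi S₁.g := inferInstanceAs (Epi (Abelian.factorThruImage f))
  refine ⟨ShortComplex.exact_of_f_is_kernel _ (KernelFork.IsLimit.ofι _ _
    (fun x hx => kernel.lift f x (by
      rw [← Abelian.image.fac f, ← Category.assoc, show x ≫ Abelian.factorThruImage f = 0 from hx, zero_comp]))
    (fun x hx => kernel.lift_ι _ _ _) (fun x hx l hl => ?_))⟩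
  rw [← cancel_mono (kernel.ι f), kernel.lift_ι]
  exact hl

theorem shortExact_image₂ {A B : EtCoh.Ab Y} (f : A ⟶ B) :
    (ShortComplex.mk (Abelian.image.ι f) (cokernel.π f) (kernel.condition _)).ShortExact :=
  { exact := ShortComplex.exact_kernel (cokernel.π f), mono_f := inferInstanceAs (Mono (Abelian.image.ι f)),
    epi_g := inferInstanceAs (Epi (cokernel.π f)) }

/-- Transfer of vanishing along a morphism with negligible kernel and cokernel, backwards. -/
theorem subsingleton_H_of_target {A B : EtCoh.Ab Y} (f : A ⟶ B) (r : ℕ)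
    (hK : Subsingleton (EtCoh.H Y (kernel f) (r + 1))) (hC : Subsingleton (EtCoh.H Y (cokernel f) r))
    (hB : Subsingleton (EtCoh.H Y B (r + 1))) : Subsingleton (EtCoh.H Y A (r + 1)) :=
  subsingleton_H_mid (shortExact_image₁ f) hK (subsingleton_H_left (shortExact_image₂ f) r hB hC)

/-- Transfer of vanishing along a morphism with negligible kernel and cokernel, forwards. -/
theorem subsingleton_H_of_source {A B : EtCoh.Ab Y} (f : A ⟶ B) (q : ℕ)
    (hK : Subsingleton (EtCoh.H Y (kernel f) (q + 1))) (hC : Subsingleton (EtCoh.H Y (cokernel f) q))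
    (hA : Subsingleton (EtCoh.H Y A q)) : Subsingleton (EtCoh.H Y B q) := by
  refine subsingleton_H_mid (shortExact_image₂ f) (subsingleton_of_forall_eq 0 fun ξ => ?_) hC
  obtain ⟨a, ha⟩ := Ext.covariant_sequence_exact₃ _ (shortExact_image₁ f) ξ (rfl : q + 1 = q + 1) (hK.elim _ _)
  rw [← ha, hA.elim a 0, Ext.zero_comp]

end Exact

end Groth.Agent.H05EGA4.EtCl.Dev
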