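import Groth.Agent.H05EGA4.EtCl.Dev.FiniteVanish
import Groth.Agent.H18Et.Cons.TorsionSupp
import Groth.Agent.H18Et.Cons.Apply
import Groth.Agent.H18Et.Coh.Colimit

/-!
# Dévissage from constant sheaves on integral finite schemes to torsion sheaves
-/

set_option autoImplicit false
set_option linter.style.haveILetI false
set_option linter.unusedSectionVars false
set_option linter.overlappingInstances false
set_option backward.isDefEq.respectTransparency false
set_option backward.isDefEq.respectTransparency.types false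

universe u

open CategoryTheory CategoryTheory.Limits AlgebraicGeometry Opposite TopologicalSpace Abelian
open scoped Classical

namespace Groth.Agent.H05EGA4.EtCl.Dev

open scoped Groth.Agent.H18Et

theorem mem_supp_of_sectSupp {Y : Scheme.{u}} {F : EtCoh.Ab Y} {V : Y.Etale} {s : EtCoh.sect F V} {v : V.left}
    (h : v ∈ EtShriek.sectSupp F V s) : V.hom v ∈ EtPBC.supp F :=
  (H18Et.mem_supp_iff F _ (H18Et.geomPt (V.hom v)) (H18Et.geomPt_base _)).2 ⟨V, v, s, rfl, h⟩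

/-- A primary constructible sheaf is killed by a power of `ℓ`. -/
theorem exists_pow_killedBy {Y : Scheme.{u}} [AlgebraicGeometry.IsNoetherian Y] {ℓ : ℕ} (hℓ : ℓ.Prime)
    (C : EtCoh.Ab Y) (hC : EtPBC.IsConstructible C) (hp : Dix.IsPrimaryTorsion ℓ C) :
    ∃ a, EtCoh.KilledBy (ℓ ^ a) C := by
  obtain ⟨n, hn0, hn⟩ := H18Et.Cons.exists_killedBy C hC
  refine ⟨n.factorization ℓ, fun V s => eq_zero_of_supp fun v => ?_⟩
  obtain ⟨W, g, ⟨w, hw⟩, k, hk⟩ := hp V s v
  subst hw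
  refine notMem_supp_of_map g w ?_
  let t := C.obj.map g.op s
  have h0 : ℓ ^ n.factorization ℓ • t = 0 := by
    refine addOrderOf_dvd_iff_nsmul_eq_zero.1 ?_
    have h1 : addOrderOf t ∣ ℓ ^ k := addOrderOf_dvd_of_nsmul_eq_zero hk
    have h2 : addOrderOf t ∣ ℓ ^ n.factorization ℓ * (n / ℓ ^ n.factorization ℓ) := by
      rw [Nat.ordProj_mul_ordCompl_eq_self]
      exact addOrderOf_dvd_of_nsmul_eq_zero (hn W t)
    exact Nat.Coprime.dvd_of_dvd_mul_right
      (Nat.Coprime.coprime_dvd_left h1 ((Nat.coprime_ordCompl hℓ (NeZero.ne n)).pow_left k)) h2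
  rw [map_nsmul, h0]
  exact fun hm => hm _ (𝟙 _) ⟨w, rfl⟩ (map_zero _)

variable {X : Scheme.{u}} [AlgebraicGeometry.IsNoetherian X] {φ : ∀ (Z : Scheme.{u}), (Z ⟶ X) → ℕ} {ℓ : ℕ}

theorem isNoetherian_of_finite {Y : Scheme.{u}} (g : Y ⟶ X) [IsFinite g] : AlgebraicGeometry.IsNoetherian Y := by
  haveI : IsLocallyNoetherian Y := LocallyOfFiniteType.isLocallyNoetherian g
  haveI : CompactSpace Y := QuasiCompact.compactSpace_of_compactSpace g
  exact {}

variable [hℓ : Fact ℓ.Prime] (hφ : Mono' φ) (h2 : ConstVan φ ℓ)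

include hφ h2

/-- One step, for constructible sheaves. -/
theorem subsingleton_H_constructible {m : ℕ} (IH : Van φ ℓ m) {r : ℕ} (hr : m ≤ r) {Y : Scheme.{u}}
    [AlgebraicGeometry.IsNoetherian Y] (g : Y ⟶ X) [IsFinite g] (C : EtCoh.Ab Y) (hC : EtPBC.IsConstructible C)
    (hp : Dix.IsPrimaryTorsion ℓ C) (hs : ∀ y ∈ EtPBC.supp C, lev φ g y < m + 1) :
    Subsingleton (EtCoh.H Y C (r + 1)) := by
  let σ : Strat Y :=
    { lo := fun y => lev φ g y < m
      hi := fun y => lev φ g y < m + 1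
      eq_of := fun {a b} ha hb h => by
        by_contra hne
        have := lev_lt hφ g h (Ne.symm hne)
        omega }
  have hsupp : ∀ (V : Y.Etale) (s : EtCoh.sect C V) (v : V.left), v ∈ EtShriek.sectSupp C V s → σ.hi (V.hom v) :=
    fun V s v hv => hs _ (mem_supp_of_sectSupp hv)
  obtain ⟨ψ, hψ⟩ := exists_layerMap C σ hsupp
  obtain ⟨a, ha⟩ := exists_pow_killedBy hℓ.out C hC hp
  have hG : Dix.IsPrimaryTorsion ℓ (∐ layerObj C σ) := isPrimaryTorsion_sigma _ fun k =>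
    isPrimaryTorsion_skyPush k.down.1 _ (isPrimaryTorsion_pull _ hp)
  refine subsingleton_H_of_target ψ r ?_ ?_ ?_
  · refine IH Y g _ (isPrimaryTorsion_kernel ψ hp) (fun y hy => ?_) _ (by omega)
    obtain ⟨V, v, s, rfl, hv⟩ := (H18Et.mem_supp_iff _ y (H18Et.geomPt y) (H18Et.geomPt_base y)).1 hy
    exact low_of_mem_supp_kernel ψ hψ hsupp V s v hv
  · refine IH Y g _ (isPrimaryTorsion_cokernel ψ hG) (fun y hy => ?_) _ hr
    obtain ⟨V, v, s, rfl, hv⟩ := (H18Et.mem_supp_iff _ y (H18Et.geomPt y) (H18Et.geomPt_base y)).1 hy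
    exact low_of_mem_supp_cokernel ψ hψ hsupp V s v hv
  · refine subsingleton_H_coprod (G := layerObj C σ) _ fun k => ?_
    have hk : lev φ g k.down.1 ≤ m := Nat.lt_succ_iff.1 k.down.2.1
    refine subsingleton_H_skyPush_finite hφ h2 IH hr g hk a _ ?_ (killedBy_map (EtCoh.pull _) ha)
    exact H18Et.Cons.finite_stalk_of_isConstructible _ (H18Et.Cons.isConstructible_pull _ C hC) _

/-- One step. -/
theorem van_succ {m : ℕ} (IH : Van φ ℓ m) : Van φ ℓ (m + 1) := by
  intro Y g _ F hF hs q hq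
  haveI := isNoetherian_of_finite g
  obtain ⟨r, rfl⟩ := Nat.exists_eq_add_of_le' (le_trans (Nat.le_add_left 1 m) hq)
  let Q : EtCoh.Ab Y → Prop := fun C => Dix.IsPrimaryTorsion ℓ C ∧ ∀ y ∈ EtPBC.supp C, lev φ g y < m + 1
  have hQ0 : ∀ C, IsZero C → Q C := fun C hC =>
    ⟨fun V s v => ⟨V, 𝟙 V, ⟨v, rfl⟩, 0, by
      have : (𝟙 C : C ⟶ C).hom.app (op V) s = (0 : C ⟶ C).hom.app (op V) s := by rw [hC.eq_of_src (𝟙 C) 0]
      rw [pow_zero, one_smul, show s = 0 from this, map_zero]⟩,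
      fun y hy => by
        obtain ⟨Ω, _, _, ξ, -, h⟩ := hy
        exact (h ((EtCoh.stalk ξ).map_isZero hC)).elim⟩
  have hQ2 : ∀ A B, EtPBC.IsConstructible A → EtPBC.IsConstructible B → Q A → Q B → Q (A ⊞ B) :=
    fun A B _ _ hA hB => by
      refine ⟨?_, fun y hy => (H18Et.Cons.supp_biprod_subset A B hy).elim (hA.2 y) (hB.2 y)⟩
      rw [isPrimaryTorsion_iff_stalk]
      intro Ω _ _ ξ p
      have h := congrArg (EtCoh.stalk ξ).map (biprod.total (X := A) (Y := B))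
      rw [Functor.map_add, Functor.map_comp, Functor.map_comp, CategoryTheory.Functor.map_id] at h
      obtain ⟨i, hi⟩ := (isPrimaryTorsion_iff_stalk A).1 hA.1 Ω ξ ((EtCoh.stalk ξ).map biprod.fst p)
      obtain ⟨j, hj⟩ := (isPrimaryTorsion_iff_stalk B).1 hB.1 Ω ξ ((EtCoh.stalk ξ).map biprod.snd p)
      refine ⟨i + j, ?_⟩
      have hp : ((EtCoh.stalk ξ).map biprod.inl) ((EtCoh.stalk ξ).map biprod.fst p) +
          ((EtCoh.stalk ξ).map biprod.inr) ((EtCoh.stalk ξ).map biprod.snd p) = p := ConcreteCategory.congr_hom h p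
      have hl : ℓ ^ (i + j) • (EtCoh.stalk ξ).map biprod.fst p = 0 := by
        rw [pow_add, mul_comm, mul_nsmul', hi, nsmul_zero]
      have hr' : ℓ ^ (i + j) • (EtCoh.stalk ξ).map biprod.snd p = 0 := by
        rw [pow_add, mul_nsmul', hj, nsmul_zero]
      rw [← hp, smul_add, ← map_nsmul ((EtCoh.stalk ξ).map biprod.inl).hom, ← map_nsmul ((EtCoh.stalk ξ).map biprod.inr).hom,
        hl, hr', map_zero, map_zero, add_zero]
  have hQe : ∀ {A B : EtCoh.Ab Y} (e : A ⟶ B) [Epi e], EtPBC.IsConstructible A → Q A → Q B :=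
    fun {A B} e _ _ hA => by
      refine ⟨?_, fun y hy => hA.2 y (H18Et.Cons.supp_subset_of_epi e hy)⟩
      rw [isPrimaryTorsion_iff_stalk]
      intro Ω _ _ ξ p
      obtain ⟨p', rfl⟩ := H9GalCoh.Dev.stalk_surjective ξ e p
      obtain ⟨k, hk⟩ := (isPrimaryTorsion_iff_stalk A).1 hA.1 Ω ξ p'
      exact ⟨k, by rw [← map_nsmul, hk, map_zero]⟩
  haveI := H18Et.Cons.isFiltered_idxCat (F := F) (Q := Q) hQ0 hQ2 hQe
  obtain ⟨hc⟩ := H18Et.Cons.nonempty_isColimit_idxCocone (F := F) (Q := Q) hQ0 hQ2 hQe (fun {C} f hC => by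
    refine ⟨Abelian.image f, Abelian.factorThruImage f, Abelian.image.ι f,
      H18Et.Cons.isConstructible_quotient (Abelian.factorThruImage f) hC,
      ⟨isPrimaryTorsion_kernel (cokernel.π f) hF,
        fun y hy => hs y (H18Et.Cons.supp_subset_of_mono (Abelian.image.ι f) hy)⟩,
      Abelian.image.fac f⟩) (fun U s u => by
      obtain ⟨V, e, hv, k, hk⟩ := hF U s u
      exact ⟨V, e, hv, isOfFinAddOrder_iff_nsmul_eq_zero.2 ⟨ℓ ^ k, pow_pos hℓ.out.pos k, hk⟩⟩)
  let D := H18Et.Cons.idxDiagram F Q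
  obtain ⟨hsurj, -⟩ := H18Et.CohColim.hSurj_hInj (r + 1) D
  let e : colimit D ≅ F := (colimit.isColimit D).coconePointUniqueUpToIso hc
  refine subsingleton_H_iso e.symm _ (subsingleton_of_forall_eq 0 fun x => ?_)
  obtain ⟨j, y, rfl⟩ := hsurj x
  haveI := subsingleton_H_constructible hφ h2 IH (by omega : m ≤ r) g (D.obj j) (H18Et.Cons.Idx.isConstructible j)
    (H18Et.Cons.Idx.prop j).1 (H18Et.Cons.Idx.prop j).2
  rw [Subsingleton.elim y 0, map_zero]

omit [AlgebraicGeometry.IsNoetherian X] hφ h2 in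
theorem van_zero : Van φ ℓ 0 := fun Y g _ F _ hs q _ =>
  subsingleton_H_of_isZero (H18Et.Cons.isZero_of_supp_eq_empty F fun y hy => Nat.not_lt_zero _ (hs y hy)) q

theorem van : ∀ m, Van φ ℓ m
  | 0 => van_zero
  | m + 1 => van_succ hφ h2 (van m)

end Groth.Agent.H05EGA4.EtCl.Dev
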