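import Groth.Agent.H05EGA4.EtCl.Lifts
import Groth.Agent.S1477
import Groth.Agent.H17.Reduced
import Groth.Agent.H17.SchDense

/-!
# Integral finite models of finite extensions of residue fields
-/

set_option autoImplicit false
set_option linter.style.haveILetI false
set_option linter.unusedSectionVars false
set_option linter.overlappingInstances false
set_option backward.isDefEq.respectTransparency false
set_option backward.isDefEq.respectTransparency.types false

universe u

open CategoryTheory CategoryTheory.Limits AlgebraicGeometry Opposite TopologicalSpace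

namespace Groth.Agent.H05EGA4.EtCl.Dev

/-- Preimmersions of spectra of fields lift étale neighbourhoods universally. -/
theorem liftsEtaleUniv_point {X : Scheme.{u}} (K : Type u) [Field K] (j : Spec (CommRingCat.of K) ⟶ X)
    [IsPreimmersion j] : H18Et.LiftsEtaleUniv j := by
  intro X' e he
  haveI : IsPreimmersion (pullback.fst e j) :=
    MorphismProperty.pullback_fst (P := @IsPreimmersion) _ _ inferInstance
  haveI : DiscreteTopology ↥(pullback e j) := by
    let snd := pullback.snd e j
    let s : Spec (CommRingCat.of K) := (default : PrimeSpectrum K)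
    haveI := (snd.isDiscrete_preimage_singleton s).to_subtype
    have huniv : snd ⁻¹' {s} = Set.univ := Set.eq_univ_of_forall fun w =>
      Subsingleton.elim (α := PrimeSpectrum K) (snd w) s
    exact DiscreteTopology.of_continuous_injective (f := fun w => (⟨w, huniv.superset trivial⟩ : ↥(snd ⁻¹' {s})))
      (continuous_id.subtype_mk _) fun a b h => congrArg Subtype.val h
  haveI : IsReduced (pullback e j) := by
    haveI : ∀ w : ↥(pullback e j), _root_.IsReduced ((pullback e j).presheaf.stalk w) := fun w =>
      H12AlgSp.isReduced_stalk_of_etale (pullback.snd e j) w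
    exact isReduced_of_isReduced_stalk _
  intro U p hp u
  exact liftsEtale_of_discrete (pullback.fst e j) p hp u

/-- A finite algebra inside a finite extension of the fractions, with the same fractions. -/
theorem exists_adjoin (A K L : Type u) [CommRing A] [Field K] [Field L] [Algebra A K] [Algebra K L] [Algebra A L]
    [IsScalarTower A K L] [FiniteDimensional K L]
    (hAK : ∀ z : K, ∃ a b : A, algebraMap A K b ≠ 0 ∧ z * algebraMap A K b = algebraMap A K a) :
    ∃ B : Subalgebra A L, Module.Finite A B ∧ IsFractionRing B L := by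
  classical
  let A₀ := (algebraMap A K).range
  haveI : IsScalarTower A₀ K L := inferInstance
  have hfr : IsFractionRing A₀ K := IsFractionRing.of_field _ _ fun z => by
    obtain ⟨a, b, hb, hab⟩ := hAK z
    exact ⟨⟨_, ⟨a, rfl⟩⟩, ⟨_, ⟨b, rfl⟩⟩, (eq_div_iff hb).2 hab⟩
  haveI : Algebra.IsAlgebraic A₀ L := by
    haveI := hfr
    exact (IsFractionRing.comap_isAlgebraic_iff (A := A₀) (K := K) (C := L)).2 inferInstance
  let bs := Module.finBasis K L
  obtain ⟨⟨_, c, rfl⟩, hy, hint⟩ :=
    Algebra.IsAlgebraic.exists_integral_multiples A₀ (Finset.univ.image bs)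
  have hc : algebraMap A L c ≠ 0 := by
    rw [IsScalarTower.algebraMap_apply A K L, map_ne_zero]
    exact fun h => hy (Subtype.ext h)
  let B := Algebra.adjoin A (Set.range fun i => algebraMap A L c * bs i)
  have hint' : ∀ i, IsIntegral A (algebraMap A L c * bs i) := fun i => by
    letI : Algebra A A₀ := (algebraMap A K).rangeRestrict.toAlgebra
    haveI : IsScalarTower A A₀ L := IsScalarTower.of_algebraMap_eq fun a => IsScalarTower.algebraMap_apply A K L a
    haveI : Algebra.IsIntegral A A₀ :=
      ⟨fun x => by obtain ⟨_, a, rfl⟩ := x; exact isIntegral_algebraMap (x := a)⟩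
    refine isIntegral_trans (R := A) (A := A₀) _ ?_
    have h1 := hint (bs i) (Finset.mem_image_of_mem _ (Finset.mem_univ i))
    rw [Algebra.smul_def] at h1
    rw [IsScalarTower.algebraMap_apply A K L]
    exact h1
  refine ⟨B, ⟨(Submodule.fg_top _).2 (fg_adjoin_of_finite (Set.finite_range _) ?_)⟩, ?_⟩
  · rintro _ ⟨i, rfl⟩
    exact hint' i
  let F : Subfield L := Subfield.closure (B : Set L)
  have hF : ∀ z, z ∈ F := by
    have hK : ∀ k : K, algebraMap K L k ∈ F := fun k => by
      obtain ⟨a, b, hb, hab⟩ := hAK k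
      rw [← eq_div_iff hb] at hab
      rw [hab, map_div₀, ← IsScalarTower.algebraMap_apply, ← IsScalarTower.algebraMap_apply]
      exact div_mem (Subfield.subset_closure (B.algebraMap_mem a)) (Subfield.subset_closure (B.algebraMap_mem b))
    intro z
    rw [← bs.sum_repr z]
    refine sum_mem fun i _ => ?_
    rw [Algebra.smul_def]
    refine mul_mem (hK _) ?_
    rw [show bs i = (algebraMap A L c * bs i) / algebraMap A L c from (mul_div_cancel_left₀ _ hc).symm]
    exact div_mem (Subfield.subset_closure (Algebra.subset_adjoin ⟨i, rfl⟩))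
      (Subfield.subset_closure (B.algebraMap_mem c))
  refine IsFractionRing.of_field _ _ fun z => ?_
  obtain ⟨a, ha, b, hb, hab⟩ := Subfield.mem_closure_iff.1 (hF z)
  rw [show Subring.closure (B : Set L) = B.toSubring from Subring.closure_eq B.toSubring] at ha hb
  exact ⟨⟨a, ha⟩, ⟨b, hb⟩, hab.symm⟩

variable {Y : Scheme.{u}} [AlgebraicGeometry.IsNoetherian Y]

/-- An integral scheme finite over `Y` with prescribed generic point. -/
theorem exists_model (x : Y) (L : Type u) [Field L] [Algebra (Y.residueField x) L]
    [FiniteDimensional (Y.residueField x) L] :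
    ∃ (T : Scheme.{u}) (h : T ⟶ Y) (_ : IsFinite h) (_ : IsIntegral T) (j : Spec (CommRingCat.of L) ⟶ T)
      (_ : IsPreimmersion j), (∀ s, j s = genericPoint T) ∧
        j ≫ h = Spec.map (CommRingCat.ofHom (algebraMap (Y.residueField x) L)) ≫ Y.fromSpecResidueField x := by
  classical
  obtain ⟨U, hU, hxU, -⟩ := exists_isAffineOpen_mem_and_subset (U := (⊤ : Y.Opens)) (x := x) trivial
  let e := Y.evaluation U x hxU
  letI : Algebra Γ(Y, U) (Y.residueField x) := e.hom.toAlgebra
  letI : Algebra Γ(Y, U) L := ((algebraMap (Y.residueField x) L).comp e.hom).toAlgebra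
  haveI : IsScalarTower Γ(Y, U) (Y.residueField x) L := IsScalarTower.of_algebraMap_eq fun _ => rfl
  obtain ⟨B, hBf, hBL⟩ := exists_adjoin Γ(Y, U) (Y.residueField x) L fun z => by
    obtain ⟨s, rfl⟩ := Y.residue_surjective x z
    haveI := hU.isLocalization_stalk ⟨x, hxU⟩
    letI := (Y.presheaf.germ U x hxU).hom.toAlgebra
    obtain ⟨⟨a, b⟩, hab⟩ := IsLocalization.surj (hU.primeIdealOf ⟨x, hxU⟩).asIdeal.primeCompl s
    refine ⟨a, b, ?_, ?_⟩
    · exact ((IsLocalization.map_units (Y.presheaf.stalk x) b).map (Y.residue x).hom).ne_zero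
    · show _ * (Y.residue x) (Y.presheaf.germ U x hxU _) = (Y.residue x) (Y.presheaf.germ U x hxU _)
      rw [← map_mul]
      exact congrArg (Y.residue x).hom hab
  let u : Spec (CommRingCat.of B) ⟶ Y := Spec.map (CommRingCat.ofHom (algebraMap Γ(Y, U) B)) ≫ hU.fromSpec
  haveI : IsFinite (Spec.map (CommRingCat.ofHom (algebraMap Γ(Y, U) B))) :=
    (IsFinite.SpecMap_iff _).2 (RingHom.finite_algebraMap.2 hBf)
  haveI : IsLocallyNoetherian ↑U := inferInstance
  haveI : IsLocallyNoetherian (Spec Γ(Y, U)) := isLocallyNoetherian_of_isOpenImmersion hU.fromSpec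
  haveI : QuasiCompact hU.fromSpec := inferInstance
  obtain ⟨T₀, j₀, π₀, hj₀, -, hπ₀, -, hfac⟩ := S1477.result u
  let w : Spec (CommRingCat.of L) ⟶ Spec (CommRingCat.of B) := Spec.map (CommRingCat.ofHom (algebraMap B L))
  haveI : IsPreimmersion w := IsPreimmersion.of_isLocalization (R := B) (S := L) (nonZeroDivisors B)
  let k := w ≫ j₀
  haveI : IsLocallyNoetherian T₀ := LocallyOfFiniteType.isLocallyNoetherian π₀
  haveI : IsPreimmersion k := inferInstance
  haveI : QuasiCompact k := inferInstance
  haveI : IsSchemeTheoreticallyDominant k.toImage := ⟨H17.ker_toImage k⟩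
  haveI : IsReduced k.image := IsSchemeTheoreticallyDominant.isReduced k.toImage
  haveI : IrreducibleSpace k.image := by
    refine (irreducibleSpace_def _).2 ?_
    rw [Set.top_eq_univ, ← (Scheme.Hom.denseRange k.toImage).closure_eq, ← Set.image_univ]
    exact ((IrreducibleSpace.isIrreducible_univ _).image _ k.toImage.continuous.continuousOn).closure
  haveI : IsIntegral k.image := isIntegral_of_irreducibleSpace_of_isReduced _
  haveI : IsFinite (k.imageι ≫ π₀) := inferInstance
  haveI : IsPreimmersion k.toImage := by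
    haveI : IsPreimmersion (k.toImage ≫ k.imageι) := by rw [Scheme.Hom.toImage_imageι]; infer_instance
    exact IsPreimmersion.of_comp k.toImage k.imageι
  refine ⟨k.image, k.imageι ≫ π₀, inferInstance, inferInstance, k.toImage, inferInstance, fun s => ?_, ?_⟩
  · haveI : Subsingleton ↥(Spec (CommRingCat.of L)) := inferInstanceAs (Subsingleton (PrimeSpectrum L))
    refine ((genericPoint_spec _).eq ?_).symm
    show closure {k.toImage s} = ⊤
    rw [Set.top_eq_univ, ← (Scheme.Hom.denseRange k.toImage).closure_eq]
    congr 1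
    ext z
    exact ⟨fun hz => ⟨s, hz.symm⟩, by rintro ⟨t, rfl⟩; exact congrArg k.toImage (Subsingleton.elim _ _)⟩
  · rw [Scheme.Hom.toImage_imageι_assoc]
    show (w ≫ j₀) ≫ π₀ = _
    rw [Category.assoc, hfac]
    show Spec.map _ ≫ Spec.map _ ≫ hU.fromSpec = _
    rw [← Spec.map_comp_assoc, Scheme.fromSpecResidueField, ← hU.fromSpecStalk_eq_fromSpecStalk hxU,
      IsAffineOpen.fromSpecStalk, ← Spec.map_comp_assoc, ← Spec.map_comp_assoc]
    rfl

end Groth.Agent.H05EGA4.EtCl.Dev
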