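import Groth.Agent.H05EGA4.EtCl.Dev.Level
import Groth.Agent.H05EGA4.EtCl.Dev.Model
import Groth.Agent.H05EGA4.EtCl.Dev.Galois
import Groth.Agent.H15Site.Shriek.EtaleTrace
import Groth.Agent.H18Et.Coh.TorsionRpush
import Groth.Agent.H18Et.PropAB

/-!
# Vanishing for direct images from a point of finite sheaves
-/

set_option autoImplicit false
set_option linter.style.haveILetI false
set_option linter.unusedSectionVars false
set_option linter.overlappingInstances false
set_option backward.isDefEq.respectTransparency false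
set_option backward.isDefEq.respectTransparency.types false

universe u

open CategoryTheory CategoryTheory.Limits AlgebraicGeometry Opposite TopologicalSpace Abelian

namespace Groth.Agent.H05EGA4.EtCl.Dev

open scoped Groth.Agent.H18Et

variable {X : Scheme.{u}} (φ : ∀ (Z : Scheme.{u}), (Z ⟶ X) → ℕ)

/-- Vanishing for sheaves supported in level `< m`. -/
def Van (ℓ m : ℕ) : Prop :=
  ∀ (Y : Scheme.{u}) (g : Y ⟶ X) [IsFinite g] (F : EtCoh.Ab Y), Dix.IsPrimaryTorsion ℓ F →
    (∀ y ∈ EtPBC.supp F, lev φ g y < m) → ∀ q, m ≤ q → Subsingleton (EtCoh.H Y F q)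

/-- The hypothesis on constant sheaves. -/
def ConstVan (ℓ : ℕ) : Prop :=
  ∀ (Y : Scheme.{u}) (g : Y ⟶ X) [IsIntegral Y] [IsFinite g] (q : ℕ), φ Y g < q →
    Subsingleton (EtCoh.H Y (EtCoh.const Y (ZMod ℓ)) q)

variable {φ}

theorem subsingleton_H_of_isZero {Y : Scheme.{u}} {F : EtCoh.Ab Y} (h : IsZero F) (q : ℕ) :
    Subsingleton (EtCoh.H Y F q) :=
  subsingleton_of_forall_eq 0 fun ξ => by
    rw [← Ext.comp_mk₀_id ξ, (IsZero.iff_id_eq_zero F).1 h, Ext.mk₀_zero, Ext.comp_zero]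

theorem subsingleton_H_iso {Y : Scheme.{u}} {F G : EtCoh.Ab Y} (e : F ≅ G) (q : ℕ)
    (h : Subsingleton (EtCoh.H Y G q)) : Subsingleton (EtCoh.H Y F q) :=
  Function.Injective.subsingleton (β := EtCoh.H Y G q)
    ((Sheaf.functorH _ q).mapIso e).addCommGroupIsoToAddEquiv.injective

theorem isZero_map_kernel_of_isIso {Y Z : Scheme.{u}} (j : Z ⟶ Y) {A B : EtCoh.Ab Y} (f : A ⟶ B)
    [IsIso ((EtCoh.pull j).map f)] : IsZero ((EtCoh.pull j).obj (kernel f)) := by
  haveI := H18Et.pull_preservesFiniteLimits j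
  have h : (EtCoh.pull j).map (kernel.ι f) = 0 := by
    rw [← cancel_mono ((EtCoh.pull j).map f), ← Functor.map_comp, kernel.condition, Functor.map_zero, zero_comp]
  haveI : Mono ((EtCoh.pull j).map (kernel.ι f)) := inferInstance
  exact IsZero.of_mono_eq_zero _ h

theorem isZero_map_cokernel_of_epi {Y Z : Scheme.{u}} (j : Z ⟶ Y) {A B : EtCoh.Ab Y} (f : A ⟶ B)
    [Epi ((EtCoh.pull j).map f)] : IsZero ((EtCoh.pull j).obj (cokernel f)) := by
  have h : (EtCoh.pull j).map (cokernel.π f) = 0 := by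
    rw [← cancel_epi ((EtCoh.pull j).map f), ← Functor.map_comp, cokernel.condition, Functor.map_zero, comp_zero]
  haveI := (EtCoh.pullPushAdj j).leftAdjoint_preservesColimits
  haveI : Epi ((EtCoh.pull j).map (cokernel.π f)) := inferInstance
  exact IsZero.of_epi_eq_zero _ h

theorem nsmul_id_const {Y : Scheme.{u}} (ℓ : ℕ) : ℓ • 𝟙 (EtCoh.const Y (ZMod ℓ)) = 0 := by
  change ℓ • 𝟙 ((constantSheaf _ AddCommGrpCat.{u + 1}).obj _) = 0
  rw [← CategoryTheory.Functor.map_id, ← Functor.map_nsmul]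
  refine Eq.trans (congrArg _ ?_) (Functor.map_zero _ _ _)
  ext m
  skip
  change ℓ • m.down = 0
  rw [nsmul_eq_mul, ZMod.natCast_self, zero_mul]

theorem isPrimaryTorsion_killed {Y : Scheme.{u}} {ℓ a : ℕ} {G : EtCoh.Ab Y} (h : EtCoh.KilledBy (ℓ ^ a) G) :
    Dix.IsPrimaryTorsion ℓ G :=
  fun V s v => ⟨V, 𝟙 V, ⟨v, rfl⟩, a, h V _⟩

theorem isPrimaryTorsion_const {Y : Scheme.{u}} (ℓ : ℕ) : Dix.IsPrimaryTorsion ℓ (EtCoh.const Y (ZMod ℓ)) :=
  isPrimaryTorsion_killed (a := 1) (by rw [pow_one]; exact H9GalCoh.Dev.killedBy_of_nsmul (nsmul_id_const ℓ))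

theorem killedBy_map {Y Z : Scheme.{u}} (G : EtCoh.Ab Y ⥤ EtCoh.Ab Z) [G.Additive] {n : ℕ} {F : EtCoh.Ab Y}
    (h : EtCoh.KilledBy n F) : EtCoh.KilledBy n (G.obj F) :=
  H9GalCoh.Dev.killedBy_of_nsmul (by
    rw [← CategoryTheory.Functor.map_id, ← Functor.map_nsmul, H9GalCoh.Dev.nsmul_of_killedBy h, Functor.map_zero])

theorem isPrimaryTorsion_push_point {Y : Scheme.{u}} [AlgebraicGeometry.IsNoetherian Y] {L : Type u} [Field L]
    (j : Spec (CommRingCat.of L) ⟶ Y) {ℓ : ℕ} (G : EtCoh.Ab (Spec (CommRingCat.of L)))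
    (hG : Dix.IsPrimaryTorsion ℓ G) : Dix.IsPrimaryTorsion ℓ ((EtCoh.push j).obj G) :=
  isPrimaryTorsion_push j (fun P _ => (H18Et.Coh.qcqs_bc j P).1) G hG

section Const

variable {ℓ : ℕ} (hφ : Mono' φ) (h2 : ConstVan φ ℓ) {m : ℕ} (IH : Van φ ℓ m) {r : ℕ} (hr : m ≤ r)

include hφ h2 IH hr

/-- The constant sheaf at the generic point of an integral scheme finite over `X`. -/
theorem subsingleton_H_generic {T : Scheme.{u}} [IsIntegral T] [AlgebraicGeometry.IsNoetherian T] (f : T ⟶ X)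
    [IsFinite f] (hT : φ T f ≤ m) (L : Type u) [Field L] (j : Spec (CommRingCat.of L) ⟶ T) [IsPreimmersion j]
    (hj : ∀ s, j s = genericPoint T) :
    Subsingleton (EtCoh.H T ((EtCoh.push j).obj (EtCoh.const _ (ZMod ℓ))) (r + 1)) := by
  let C := EtCoh.const T (ZMod ℓ)
  let η := (EtCoh.pullPushAdj j).unit.app C
  haveI := H18Et.isIso_counit_of_liftsEtaleUniv (liftsEtaleUniv_point L j) ((EtCoh.pull j).obj C)
  haveI : IsIso ((EtCoh.pull j).map η) := by
    haveI : IsIso (𝟙 ((EtCoh.pull j).obj C)) := ⟨⟨𝟙 _, Category.id_comp _, Category.id_comp _⟩⟩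
    exact IsIso.of_isIso_fac_right ((EtCoh.pullPushAdj j).left_triangle_components C)
  have key : ∀ (D : EtCoh.Ab T), Dix.IsPrimaryTorsion ℓ D → IsZero ((EtCoh.pull j).obj D) →
      ∀ q, m ≤ q → Subsingleton (EtCoh.H T D q) := fun D hD h0 q hq => IH T f D hD (fun y hy => by
    refine lt_of_lt_of_le (lev_lt_of_ne hφ f y fun h => ?_) hT
    refine notMem_supp_of_pull_isZero j D h0 (default : PrimeSpectrum L) ?_
    rwa [hj, ← h]) q hq
  refine subsingleton_H_iso ((EtCoh.push j).mapIso (EtCore.pullConst j (ZMod ℓ)).symm) _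
    (subsingleton_H_of_source η (r + 1) (key _ (isPrimaryTorsion_kernel η (isPrimaryTorsion_const ℓ))
      (isZero_map_kernel_of_isIso j η) _ (by omega))
      (key _ (isPrimaryTorsion_cokernel η (isPrimaryTorsion_push_point j _
        (isPrimaryTorsion_pull j (isPrimaryTorsion_const ℓ)))) (isZero_map_cokernel_of_epi j η) _ (by omega))
      (h2 T f (r + 1) (by omega)))

end Const

section Point

variable {ℓ : ℕ} [hℓ : Fact ℓ.Prime] (hφ : Mono' φ) (h2 : ConstVan φ ℓ) {m : ℕ} (IH : Van φ ℓ m) {r : ℕ} (hr : m ≤ r)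
  {Y : Scheme.{u}} [AlgebraicGeometry.IsNoetherian Y] (g : Y ⟶ X) [IsFinite g] {x : Y} (hx : lev φ g x ≤ m)

include hφ IH hr hx

/-- Direct images from a point are exact up to lower level. -/
theorem subsingleton_H_skyPush_mid {B Q : EtCoh.Ab (Spec (Y.residueField x))} (p : B ⟶ Q) [Epi p]
    (hQ : Dix.IsPrimaryTorsion ℓ Q)
    (h₁ : Subsingleton (EtCoh.H Y ((EtCoh.push (Y.fromSpecResidueField x)).obj (kernel p)) (r + 1)))
    (h₃ : Subsingleton (EtCoh.H Y ((EtCoh.push (Y.fromSpecResidueField x)).obj Q) (r + 1))) :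
    Subsingleton (EtCoh.H Y ((EtCoh.push (Y.fromSpecResidueField x)).obj B) (r + 1)) := by
  let i := Y.fromSpecResidueField x
  haveI := (EtCoh.pullPushAdj i).rightAdjoint_preservesLimits
  have hl : H18Et.LiftsEtaleUniv i := liftsEtaleUniv_fromSpecResidueField x
  haveI := H18Et.isIso_counit_of_liftsEtaleUniv hl B
  haveI := H18Et.isIso_counit_of_liftsEtaleUniv hl Q
  haveI : Epi ((EtCoh.pull i).map ((EtCoh.push i).map p)) := by
    have h : (EtCoh.pull i).map ((EtCoh.push i).map p) ≫ (EtCoh.pullPushAdj i).counit.app Q =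
        (EtCoh.pullPushAdj i).counit.app B ≫ p := (EtCoh.pullPushAdj i).counit.naturality p
    rw [show (EtCoh.pull i).map ((EtCoh.push i).map p) =
      ((EtCoh.pullPushAdj i).counit.app B ≫ p) ≫ inv ((EtCoh.pullPushAdj i).counit.app Q) by
        rw [← h, Category.assoc, IsIso.hom_inv_id, Category.comp_id]]
    infer_instance
  refine subsingleton_H_of_target ((EtCoh.push i).map p) r
    (subsingleton_H_iso (PreservesKernel.iso (EtCoh.push i) p).symm _ h₁) ?_ h₃
  refine IH Y g _ (isPrimaryTorsion_cokernel _ (isPrimaryTorsion_push_point i _ hQ)) (fun y hy => ?_) r hr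
  have hxy : x ⤳ y := specializes_of_mem_supp_skyPush Q (H18Et.Cons.supp_subset_of_epi (cokernel.π _) hy)
  refine lt_of_lt_of_le (lev_lt hφ g hxy fun h => ?_) hx
  subst h
  refine notMem_supp_of_pull_isZero i _ (isZero_map_cokernel_of_epi i ((EtCoh.push i).map p))
    (default : PrimeSpectrum (Y.residueField x)) ?_
  rw [Scheme.fromSpecResidueField_apply]
  exact hy

include h2

/-- The constant sheaf of a finite separable extension. -/
theorem subsingleton_H_skyPush_const (L : Type u) [Field L] [Algebra (Y.residueField x) L]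
    [FiniteDimensional (Y.residueField x) L] :
    Subsingleton (EtCoh.H Y ((EtCoh.push (Y.fromSpecResidueField x)).obj
      ((EtCoh.push (H9GalCoh.Transfer.str (Y.residueField x) L)).obj (EtCoh.const _ (ZMod ℓ)))) (r + 1)) := by
  obtain ⟨T, h, _, _, j, _, hj, hjh⟩ := exists_model x L
  haveI : IsLocallyNoetherian T := LocallyOfFiniteType.isLocallyNoetherian h
  haveI : CompactSpace T := QuasiCompact.compactSpace_of_compactSpace h
  haveI : AlgebraicGeometry.IsNoetherian T := {}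
  have hT : φ T (h ≫ g) ≤ m := by
    refine le_trans (le_lev hφ g h x ?_) hx
    rw [← hj (IsLocalRing.closedPoint L), ← Scheme.Hom.comp_apply, hjh, Scheme.Hom.comp_apply]
    exact Scheme.fromSpecResidueField_apply _ _
  obtain ⟨a⟩ := H15Site.IntDesc.nonempty_H_push h ((EtCoh.push j).obj (EtCoh.const _ (ZMod ℓ))) (r + 1)
  have h0 := subsingleton_H_generic hφ h2 IH hr (h ≫ g) hT L j hj
  have h1 : Subsingleton (EtCoh.H Y ((EtCoh.push h).obj ((EtCoh.push j).obj (EtCoh.const _ (ZMod ℓ)))) (r + 1)) :=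
    Function.Injective.subsingleton (β := EtCoh.H T ((EtCoh.push j).obj (EtCoh.const _ (ZMod ℓ))) (r + 1))
      a.addCommGroupIsoToAddEquiv.injective
  exact subsingleton_H_iso ((EtCoh.pushComp (Y.fromSpecResidueField x) (H9GalCoh.Transfer.str (Y.residueField x) L) ≪≫
    EtCoh.pushCongr hjh.symm ≪≫ (EtCoh.pushComp h j).symm).app _) _ h1

end Point

end Groth.Agent.H05EGA4.EtCl.Dev
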